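import Groth.Agent.Ar2.Hom

/-!
Normal form of involutions of `k[[x,y]]/(y^2 - x^(r+1))` for `r ≥ 2`.
-/

set_option autoImplicit false

universe u

open ArSing

namespace Groth.Agent.Ar2

variable {k : Type u} [Field k] {r : ℕ}

local notation "P1" => PowerSeries k
local notation "𝔪" => IsLocalRing.maximalIdeal (ring k r)

/-- Divisibility of the components along the filtration. -/
def InW (j : ℕ) (a : ring k r) : Prop :=
  PowerSeries.X ^ j ∣ fst a ∧ PowerSeries.X ^ (j - 1) ∣ snd a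

theorem inW_of_mem_pow (hr : 1 ≤ r) {j : ℕ} : ∀ {a : ring k r}, a ∈ 𝔪 ^ j → InW j a := by
  induction j with
  | zero => intro a _; simp [InW]
  | succ j ih =>
    intro a ha
    rw [pow_succ] at ha
    refine Submodule.mul_induction_on ha (fun p hp q hq => ?_)
      (fun p q hp hq => ⟨by rw [fst_add]; exact dvd_add hp.1 hq.1, by rw [snd_add]; exact dvd_add hp.2 hq.2⟩)
    obtain ⟨h1, h2⟩ := ih hp
    have hq1 : PowerSeries.X ∣ fst q := PowerSeries.X_dvd_iff.2 (mem_max_iff.1 hq)
    constructor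
    · rw [fst_mul, pow_succ]
      refine dvd_add (mul_dvd_mul h1 hq1) ?_
      rw [← pow_succ]
      refine (pow_dvd_pow _ (show j + 1 ≤ r + 1 + (j - 1) by omega)).trans ?_
      rw [pow_add]
      exact mul_dvd_mul_left _ (h2.mul_right _)
    · rw [snd_mul, Nat.add_sub_cancel]
      refine dvd_add (h1.mul_right _) ?_
      rcases j with _ | j
      · simp
      · rw [pow_succ]
        exact mul_dvd_mul h2 hq1

lemma coeff_eq_zero {f : P1} {n i : ℕ} (h : PowerSeries.X ^ n ∣ f) (hi : i < n) :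
    PowerSeries.coeff i f = 0 := PowerSeries.X_pow_dvd_iff.1 h i hi

lemma coeff_fst_eq_zero (hr : 1 ≤ r) {a : ring k r} {n i : ℕ} (ha : a ∈ 𝔪 ^ n) (hi : i < n) :
    PowerSeries.coeff i (fst a) = 0 := coeff_eq_zero (inW_of_mem_pow hr ha).1 hi

lemma coeff_snd_eq_zero (hr : 1 ≤ r) {a : ring k r} {n i : ℕ} (ha : a ∈ 𝔪 ^ n) (hi : i + 1 < n) :
    PowerSeries.coeff i (snd a) = 0 := coeff_eq_zero (inW_of_mem_pow hr ha).2 (by omega)

/-- Membership in the square of the maximal ideal. -/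
theorem mem_sq_of {a : ring k r} (h0 : PowerSeries.constantCoeff (fst a) = 0)
    (h1 : PowerSeries.coeff 1 (fst a) = 0) (h2 : PowerSeries.constantCoeff (snd a) = 0) :
    a ∈ 𝔪 ^ 2 := by
  obtain ⟨f, hf⟩ := PowerSeries.X_pow_dvd_iff.2 (show ∀ m < 2, PowerSeries.coeff m (fst a) = 0 by
    intro m hm
    interval_cases m
    · simpa using h0
    · exact h1)
  obtain ⟨g, hg⟩ := PowerSeries.X_dvd_iff.2 h2
  rw [← repr_eq a, hf, hg, map_mul, map_mul, map_pow, xMap_X, pow_two, pow_two]
  exact add_mem (Ideal.mul_mem_right _ _ (Ideal.mul_mem_mul x_mem_max x_mem_max))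
    (by rw [← mul_assoc]; exact Ideal.mul_mem_right _ _ (Ideal.mul_mem_mul y_mem_max x_mem_max))

/-- The linear part. -/
theorem sub_linear_mem {a : ring k r} (ha : a ∈ 𝔪) :
    a - (algebraMap k _ (PowerSeries.coeff 1 (fst a)) * ArSing.x k r +
      algebraMap k _ (PowerSeries.constantCoeff (snd a)) * ArSing.y k r) ∈ 𝔪 ^ 2 := by
  refine mem_sq_of ?_ ?_ ?_
  · simp [mem_max_iff.1 ha]
  · simp
  · simp

lemma map_mem_pow (σ : ring k r ≃ₐ[k] ring k r) {a : ring k r} {n : ℕ} (ha : a ∈ 𝔪 ^ n) :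
    σ a ∈ 𝔪 ^ n := by
  have hle : Ideal.map (σ : ring k r →+* ring k r) 𝔪 ≤ 𝔪 := by
    rw [Ideal.map_le_iff_le_comap]
    intro b hb
    rw [Ideal.mem_comap, IsLocalRing.mem_maximalIdeal, mem_nonunits_iff] at *
    exact fun h => hb ((MulEquiv.isUnit_map σ).1 h)
  have := Ideal.mem_map_of_mem (σ : ring k r →+* ring k r) ha
  rw [Ideal.map_pow] at this
  exact Ideal.pow_right_mono hle n this

theorem max_le_span {u v : ring k r} (q : k)
    (hu' : u - (ArSing.x k r + algebraMap k _ q * ArSing.y k r) ∈ 𝔪 ^ 2)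
    (hv : v - ArSing.y k r ∈ 𝔪 ^ 2) : 𝔪 ≤ Ideal.span {u, v} := by
  refine Submodule.le_of_le_smul_of_le_jacobson_bot (IsNoetherian.noetherian _)
    (IsLocalRing.maximalIdeal_le_jacobson _) ?_
  change 𝔪 ≤ Ideal.span {u, v} ⊔ 𝔪 * 𝔪
  rw [← pow_two, max_eq_span, Ideal.span_le]
  rw [max_eq_span] at hu' hv
  have hy : ArSing.y k r ∈ Ideal.span {u, v} ⊔ Ideal.span {ArSing.x k r, ArSing.y k r} ^ 2 := by
    have := sub_mem (Ideal.mem_sup_left (T := Ideal.span {ArSing.x k r, ArSing.y k r} ^ 2)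
      (Ideal.subset_span (show v ∈ ({u, v} : Set (ring k r)) by simp))) (Ideal.mem_sup_right hv)
    rwa [sub_sub_cancel] at this
  refine Set.pair_subset ?_ hy
  have := sub_mem (sub_mem (Ideal.mem_sup_left (T := Ideal.span {ArSing.x k r, ArSing.y k r} ^ 2)
    (Ideal.subset_span (show u ∈ ({u, v} : Set (ring k r)) by simp)))
    (Ideal.mem_sup_right hu')) (Ideal.mul_mem_left _ (algebraMap k _ q) hy)
  rwa [sub_sub_cancel, add_sub_cancel_right] at this

theorem mul_self_mem_span {R : Type*} [CommRing R] [IsLocalRing R] [IsNoetherianRing R] {u v : R}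
    (hu : u ∈ IsLocalRing.maximalIdeal R) (hv : v ∈ IsLocalRing.maximalIdeal R)
    (hm : IsLocalRing.maximalIdeal R ≤ Ideal.span {u, v})
    (h3 : v * v ∈ Ideal.span {u} * IsLocalRing.maximalIdeal R ⊔
      IsLocalRing.maximalIdeal R * (IsLocalRing.maximalIdeal R * IsLocalRing.maximalIdeal R)) :
    v * v ∈ Ideal.span {u} := by
  have hfg : ((IsLocalRing.maximalIdeal R) * (IsLocalRing.maximalIdeal R)).FG := IsNoetherian.noetherian _
  have hle : (IsLocalRing.maximalIdeal R) * (IsLocalRing.maximalIdeal R) ≤ Ideal.span {u} * (IsLocalRing.maximalIdeal R) := by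
    refine Submodule.le_of_le_smul_of_le_jacobson_bot (I := (IsLocalRing.maximalIdeal R)) hfg
      (IsLocalRing.maximalIdeal_le_jacobson _) ?_
    rw [smul_eq_mul]
    refine le_trans (Ideal.mul_mono hm hm) ?_
    rw [Ideal.span_mul_span', Ideal.span_le]
    rintro z ⟨a, ha, b, hb, hz⟩
    change a * b = z at hz
    rw [SetLike.mem_coe, ← hz]
    simp only [Set.mem_insert_iff, Set.mem_singleton_iff] at ha hb
    rcases ha with ha | ha <;> rcases hb with hb | hb <;> rw [ha, hb]
    · exact Ideal.mem_sup_left (Ideal.mul_mem_mul (Ideal.mem_span_singleton_self u) hu)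
    · exact Ideal.mem_sup_left (Ideal.mul_mem_mul (Ideal.mem_span_singleton_self u) hv)
    · rw [mul_comm v u]
      exact Ideal.mem_sup_left (Ideal.mul_mem_mul (Ideal.mem_span_singleton_self u) hv)
    · exact h3
  exact Ideal.mul_le_left (hle (Ideal.mul_mem_mul hv hv))

/-- Leading coefficients of a power of a generator of the shape `x + q y`. -/
theorem coeff_fst_pow (hr : 2 ≤ r) {u : ring k r} (hu : u ∈ 𝔪)
    (h1 : PowerSeries.coeff 1 (fst u) = 1) (i : ℕ) :
    PowerSeries.coeff i (fst (u ^ i)) = 1 := by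
  induction i with
  | zero => simp
  | succ i ih =>
    obtain ⟨p, hp⟩ := PowerSeries.X_dvd_iff.2 (mem_max_iff.1 hu)
    have hp0 : PowerSeries.constantCoeff p = 1 := by
      rw [hp, PowerSeries.coeff_succ_X_mul] at h1
      simpa using h1
    obtain ⟨q, hq⟩ := (inW_of_mem_pow (by omega) (Ideal.pow_mem_pow hu i)).1
    have hq0 : PowerSeries.constantCoeff q = 1 := by
      rw [hq] at ih
      simpa [PowerSeries.coeff_X_pow_mul'] using ih
    rw [pow_succ', fst_mul, map_add, hp, hq,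
      show PowerSeries.X * p * (PowerSeries.X ^ i * q) = PowerSeries.X ^ (i + 1) * (p * q) by ring,
      PowerSeries.coeff_X_pow_mul', if_pos le_rfl, Nat.sub_self,
      PowerSeries.coeff_zero_eq_constantCoeff_apply, map_mul, hp0, hq0, one_mul,
      add_eq_left]
    obtain ⟨w, hw⟩ := (inW_of_mem_pow (by omega) (Ideal.pow_mem_pow hu i)).2
    rw [hw, show PowerSeries.X ^ (r + 1) * (snd u * (PowerSeries.X ^ (i - 1) * w)) =
      PowerSeries.X ^ (r + 1 + (i - 1)) * (snd u * w) by ring,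
      PowerSeries.coeff_X_pow_mul', if_neg (by omega)]

lemma ev_split (u : ring k r) (hu : u ∈ 𝔪) {f : P1} {i : ℕ}
    (h : ∀ m < i, PowerSeries.coeff m f = 0) :
    ∃ f' : P1, PowerSeries.constantCoeff f' = PowerSeries.coeff i f ∧
      ev u hu f = u ^ i * ev u hu f' := by
  obtain ⟨f', rfl⟩ := PowerSeries.X_pow_dvd_iff.2 h
  refine ⟨f', ?_, by rw [map_mul, map_pow, ev_X]⟩
  simp [PowerSeries.coeff_X_pow_mul']

theorem coeff_fst_ev (hr : 2 ≤ r) {u : ring k r} (hu : u ∈ 𝔪)
    (h1 : PowerSeries.coeff 1 (fst u) = 1) {f : P1} {i : ℕ}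
    (h : ∀ m < i, PowerSeries.coeff m f = 0) :
    PowerSeries.coeff i (fst (ev u hu f)) = PowerSeries.coeff i f ∧ ev u hu f ∈ 𝔪 ^ i := by
  obtain ⟨f', hf0, hf⟩ := ev_split u hu h
  have hmem : ev u hu f ∈ 𝔪 ^ i := by rw [hf]; exact Ideal.mul_mem_right _ _ (Ideal.pow_mem_pow hu i)
  refine ⟨?_, hmem⟩
  have he : PowerSeries.constantCoeff (fst (ev u hu f')) = PowerSeries.constantCoeff f' :=
    eps_ev u hu f'
  obtain ⟨p, hp⟩ := (inW_of_mem_pow (by omega) (Ideal.pow_mem_pow hu i)).1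
  obtain ⟨w, hw⟩ := (inW_of_mem_pow (by omega) (Ideal.pow_mem_pow hu i)).2
  have hp0 : PowerSeries.constantCoeff p = 1 := by
    have := coeff_fst_pow hr hu h1 i
    rw [hp] at this
    simpa [PowerSeries.coeff_X_pow_mul'] using this
  rw [hf, fst_mul, map_add, hp, hw, mul_assoc, PowerSeries.coeff_X_pow_mul', if_pos le_rfl,
    Nat.sub_self, PowerSeries.coeff_zero_eq_constantCoeff_apply, map_mul, hp0, he, hf0, one_mul,
    add_eq_left,
    show PowerSeries.X ^ (r + 1) * (PowerSeries.X ^ (i - 1) * w * snd (ev u hu f')) =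
      PowerSeries.X ^ (r + 1 + (i - 1)) * (w * snd (ev u hu f')) by ring,
    PowerSeries.coeff_X_pow_mul', if_neg (by omega)]

/-- Expansions detect the filtration. -/
theorem expansion_dvd (hr : 2 ≤ r) {u v : ring k r} (hu : u ∈ 𝔪)
    (h1 : PowerSeries.coeff 1 (fst u) = 1) (hv : v - ArSing.y k r ∈ 𝔪 ^ 2) {f g : P1} {n : ℕ}
    (h : ev u hu f + ev u hu g * v ∈ 𝔪 ^ n) :
    PowerSeries.X ^ n ∣ f ∧ PowerSeries.X ^ (n - 1) ∣ g := by
  have hr1 : 1 ≤ r := by omega
  have hv1 : PowerSeries.X ^ 2 ∣ fst v := by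
    have := (inW_of_mem_pow hr1 hv).1
    simpa using this
  have hv2 : PowerSeries.constantCoeff (snd v) = 1 := by
    have := coeff_snd_eq_zero hr1 hv (show 0 + 1 < 2 by norm_num)
    simpa [sub_eq_zero] using this
  suffices ∀ m, m ≤ n → PowerSeries.X ^ m ∣ f ∧ PowerSeries.X ^ (m - 1) ∣ g from this n le_rfl
  intro m
  induction m with
  | zero => simp
  | succ m ih =>
    intro hm
    obtain ⟨hf, hg⟩ := ih (by omega)
    rw [PowerSeries.X_pow_dvd_iff] at hf hg
    obtain ⟨hfc, hfm⟩ := coeff_fst_ev hr hu h1 hf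
    obtain ⟨hgc, hgm⟩ := coeff_fst_ev hr hu h1 hg
    obtain ⟨G, hG⟩ := (inW_of_mem_pow hr1 hgm).1
    obtain ⟨G', hG'⟩ := (inW_of_mem_pow hr1 hgm).2
    obtain ⟨V, hV⟩ := hv1
    have e1 := coeff_fst_eq_zero hr1 h (show m < n by omega)
    rw [fst_add, map_add, hfc, fst_mul, map_add, hG, hV, hG',
      show PowerSeries.X ^ (m - 1) * G * (PowerSeries.X ^ 2 * V) =
        PowerSeries.X ^ (m - 1 + 2) * (G * V) by ring,
      PowerSeries.coeff_X_pow_mul', if_neg (by omega),
      show PowerSeries.X ^ (r + 1) * (PowerSeries.X ^ (m - 1 - 1) * G' * snd v) =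
        PowerSeries.X ^ (r + 1 + (m - 1 - 1)) * (G' * snd v) by ring,
      PowerSeries.coeff_X_pow_mul', if_neg (by omega), add_zero, add_zero] at e1
    have hf' : ∀ i < m + 1, PowerSeries.coeff i f = 0 := fun i hi => by
      rcases Nat.lt_or_eq_of_le (Nat.lt_succ_iff.1 hi) with hi | rfl
      · exact hf i hi
      · exact e1
    refine ⟨PowerSeries.X_pow_dvd_iff.2 hf', PowerSeries.X_pow_dvd_iff.2 fun i hi => ?_⟩
    rw [Nat.add_sub_cancel] at hi
    by_cases him : i < m - 1
    · exact hg i him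
    obtain rfl : i = m - 1 := by omega
    obtain ⟨-, hfm'⟩ := coeff_fst_ev hr hu h1 hf'
    have e2 := coeff_snd_eq_zero hr1 h (show m - 1 + 1 < n by omega)
    rw [snd_add, map_add, coeff_snd_eq_zero hr1 hfm' (show m - 1 + 1 < m + 1 by omega), zero_add,
      snd_mul, map_add, hG', hV,
      show PowerSeries.X ^ (m - 1 - 1) * G' * (PowerSeries.X ^ 2 * V) =
        PowerSeries.X ^ (m - 1 - 1 + 2) * (G' * V) by ring,
      PowerSeries.coeff_X_pow_mul' _ (m - 1 - 1 + 2), if_neg (by omega), add_zero, hG, mul_assoc,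
      PowerSeries.coeff_X_pow_mul', if_pos le_rfl, Nat.sub_self,
      PowerSeries.coeff_zero_eq_constantCoeff_apply, map_mul, hv2, mul_one] at e2
    rw [hG, PowerSeries.coeff_X_pow_mul', if_pos le_rfl, Nat.sub_self,
      PowerSeries.coeff_zero_eq_constantCoeff_apply] at hgc
    rw [← hgc, e2]

theorem expansion_unique (hr : 2 ≤ r) {u v : ring k r} (hu : u ∈ 𝔪)
    (h1 : PowerSeries.coeff 1 (fst u) = 1) (hv : v - ArSing.y k r ∈ 𝔪 ^ 2) {f g f' g' : P1}
    (h : ev u hu f + ev u hu g * v = ev u hu f' + ev u hu g' * v) : f = f' ∧ g = g' := by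
  have h0 : ∀ n, ev u hu (f - f') + ev u hu (g - g') * v ∈ 𝔪 ^ n := fun n => by
    have : ev u hu (f - f') + ev u hu (g - g') * v = 0 := by
      rw [map_sub, map_sub]; linear_combination h
    rw [this]; exact zero_mem _
  constructor
  · refine sub_eq_zero.1 (PowerSeries.ext fun i => ?_)
    rw [map_zero]
    exact coeff_eq_zero (expansion_dvd hr hu h1 hv (h0 (i + 1))).1 (Nat.lt_succ_self i)
  · refine sub_eq_zero.1 (PowerSeries.ext fun i => ?_)
    rw [map_zero]
    exact coeff_eq_zero (expansion_dvd hr hu h1 hv (h0 (i + 2))).2 (by omega)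

theorem sign_of_rescale (h2 : (2 : k) ≠ 0) {t : P1} (ht : PowerSeries.constantCoeff t ≠ 0) {a : k}
    (h : PowerSeries.rescale a (t * t) = t * t) : PowerSeries.rescale a t = t := by
  rw [map_mul] at h
  rcases mul_self_eq_mul_self_iff.1 h with h | h
  · exact h
  · have h0 := congrArg PowerSeries.constantCoeff h
    rw [map_neg, ← PowerSeries.coeff_zero_eq_constantCoeff_apply, PowerSeries.coeff_rescale,
      pow_zero, one_mul, PowerSeries.coeff_zero_eq_constantCoeff_apply] at h0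
    exact absurd (mul_left_cancel₀ h2 (show 2 * PowerSeries.constantCoeff t = 2 * 0 by
      linear_combination h0)) ht

/-- Normal form of an involution. -/
theorem normal_form [IsAlgClosed k] (h2 : (2 : k) ≠ 0) (hr : 2 ≤ r)
    (σ : ring k r ≃ₐ[k] ring k r) (hσ : ∀ a, σ (σ a) = a) :
    ∃ (φ : ring k r ≃ₐ[k] ring k r) (a β : k), a ^ 2 = 1 ∧ β ^ 2 = 1 ∧ a ^ (r + 1) = 1 ∧
      φ.symm (σ (φ (ArSing.x k r))) = a • ArSing.x k r ∧
      φ.symm (σ (φ (ArSing.y k r))) = β • ArSing.y k r := by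
  have hr1 : 1 ≤ r := by omega
  set A : k →+* ring k r := algebraMap k (ring k r) with hA
  have hσA : ∀ c, σ (A c) = A c := σ.commutes
  have hσm : ∀ z ∈ 𝔪, σ z ∈ 𝔪 := fun z hz => by
    simpa using map_mem_pow σ (n := 1) (by simpa using hz)
  obtain ⟨a, b, hx⟩ : ∃ a b : k, σ (ArSing.x k r) - (A a * ArSing.x k r + A b * ArSing.y k r) ∈ 𝔪 ^ 2 :=
    ⟨_, _, sub_linear_mem (hσm _ x_mem_max)⟩
  obtain ⟨α, β, hy⟩ : ∃ a b : k, σ (ArSing.y k r) - (A a * ArSing.x k r + A b * ArSing.y k r) ∈ 𝔪 ^ 2 :=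
    ⟨_, _, sub_linear_mem (hσm _ y_mem_max)⟩
  have hy2 : ArSing.y k r ^ 2 ∈ 𝔪 ^ 3 := by
    rw [y_sq']
    exact Ideal.pow_le_pow_right (by omega) (Ideal.pow_mem_pow x_mem_max _)
  have hα : α = 0 := by
    have hlin : A α * ArSing.x k r + A β * ArSing.y k r ∈ 𝔪 :=
      add_mem (Ideal.mul_mem_left _ _ x_mem_max) (Ideal.mul_mem_left _ _ y_mem_max)
    have hsq : (A α * ArSing.x k r + A β * ArSing.y k r) ^ 2 ∈ 𝔪 ^ 3 := by
      have e : (A α * ArSing.x k r + A β * ArSing.y k r) ^ 2 = σ (ArSing.y k r ^ 2) -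
          (σ (ArSing.y k r) - (A α * ArSing.x k r + A β * ArSing.y k r)) *
            (σ (ArSing.y k r) + (A α * ArSing.x k r + A β * ArSing.y k r)) := by
        rw [map_pow]; ring
      rw [e]
      refine sub_mem (map_mem_pow σ hy2) ?_
      rw [show (3 : ℕ) = 2 + 1 from rfl, pow_succ]
      exact Ideal.mul_mem_mul hy (add_mem (hσm _ y_mem_max) hlin)
    have := coeff_fst_eq_zero hr1 hsq (show 2 < 3 by norm_num)
    have e : fst ((A α * ArSing.x k r + A β * ArSing.y k r) ^ 2) =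
        PowerSeries.X ^ 2 * PowerSeries.C (α * α) + PowerSeries.X ^ (r + 1) * PowerSeries.C (β * β) := by
      rw [pow_two, hA]
      simp
      ring
    rw [e, map_add, PowerSeries.coeff_X_pow_mul', if_pos le_rfl, PowerSeries.coeff_X_pow_mul',
      if_neg (show ¬ r + 1 ≤ 2 by omega), add_zero] at this
    simpa using this
  subst hα
  rw [map_zero, zero_mul, zero_add] at hy
  have hβ : β ^ 2 = 1 := by
    have h := map_mem_pow σ hy
    rw [map_sub, map_mul, hσA, hσ] at h
    have := coeff_snd_eq_zero hr1 (add_mem h (Ideal.mul_mem_left _ (A β) hy)) (show 0 + 1 < 2 by norm_num)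
    simp [hA, mul_sub] at this
    linear_combination -this
  have ha : a ^ 2 = 1 := by
    have h := map_mem_pow σ hx
    rw [map_sub, map_add, map_mul, map_mul, hσA, hσA, hσ] at h
    have := coeff_fst_eq_zero hr1
      (add_mem (add_mem h (Ideal.mul_mem_left _ (A a) hx)) (Ideal.mul_mem_left _ (A b) hy))
      (show 1 < 2 by norm_num)
    simp [hA, mul_sub] at this
    linear_combination -this
  set u : ring k r := A 2⁻¹ * (ArSing.x k r + A a * σ (ArSing.x k r)) with hudef
  set v : ring k r := A 2⁻¹ * (ArSing.y k r + A β * σ (ArSing.y k r)) with hvdef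
  have hσu : σ u = A a * u := by
    rw [hudef, map_mul, map_add, map_mul, hσA, hσA, hσ]
    have : A a * A a = 1 := by rw [← map_mul, ← pow_two, ha, map_one]
    linear_combination -(A 2⁻¹ * σ (ArSing.x k r)) * this
  have hσv : σ v = A β * v := by
    rw [hvdef, map_mul, map_add, map_mul, hσA, hσA, hσ]
    have : A β * A β = 1 := by rw [← map_mul, ← pow_two, hβ, map_one]
    linear_combination -(A 2⁻¹ * σ (ArSing.y k r)) * this
  have hux : u - (ArSing.x k r + A (2⁻¹ * a * b) * ArSing.y k r) ∈ 𝔪 ^ 2 := by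
    have e : u - (ArSing.x k r + A (2⁻¹ * a * b) * ArSing.y k r) =
        A (2⁻¹ * a) * (σ (ArSing.x k r) - (A a * ArSing.x k r + A b * ArSing.y k r)) := by
      have h1 : A 2⁻¹ + A 2⁻¹ * (A a * A a) = 1 := by
        rw [← map_mul, ← map_mul, ← map_add, ← pow_two, ha, mul_one,
          show (2⁻¹ + 2⁻¹ : k) = 1 by field_simp; norm_num, map_one]
      rw [hudef, map_mul, map_mul]
      linear_combination (ArSing.x k r) * h1
    rw [e]
    exact Ideal.mul_mem_left _ _ hx
  have hvy : v - ArSing.y k r ∈ 𝔪 ^ 2 := by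
    have e : v - ArSing.y k r = A (2⁻¹ * β) * (σ (ArSing.y k r) - A β * ArSing.y k r) := by
      have h1 : A 2⁻¹ + A 2⁻¹ * (A β * A β) = 1 := by
        rw [← map_mul, ← map_mul, ← map_add, ← pow_two, hβ, mul_one,
          show (2⁻¹ + 2⁻¹ : k) = 1 by field_simp; norm_num, map_one]
      rw [hvdef, map_mul]
      linear_combination (ArSing.y k r) * h1
    rw [e]
    exact Ideal.mul_mem_left _ _ hy
  have hu : u ∈ 𝔪 := Ideal.mul_mem_left _ _
    (add_mem x_mem_max (Ideal.mul_mem_left _ _ (hσm _ x_mem_max)))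
  have hv : v ∈ 𝔪 := Ideal.mul_mem_left _ _
    (add_mem y_mem_max (Ideal.mul_mem_left _ _ (hσm _ y_mem_max)))
  have hu1 : PowerSeries.coeff 1 (fst u) = 1 := by
    have := coeff_fst_eq_zero hr1 hux (show 1 < 2 by norm_num)
    simpa [hA, sub_eq_zero, PowerSeries.coeff_X_pow_mul', show ¬ r + 1 ≤ 1 by omega] using this
  have hm : 𝔪 ≤ Ideal.span {u, v} := max_le_span _ hux hvy
  have hvv3 : v * v ∈ 𝔪 ^ 3 := by
    rw [show v * v = ArSing.y k r ^ 2 + (v - ArSing.y k r) * (v + ArSing.y k r) by ring]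
    refine add_mem hy2 ?_
    rw [show (3 : ℕ) = 2 + 1 from rfl, pow_succ]
    exact Ideal.mul_mem_mul hvy (add_mem hv y_mem_max)
  have hvv : v * v ∈ Ideal.span {u} := mul_self_mem_span hu hv hm
    (Ideal.mem_sup_right (by rwa [pow_succ', pow_two] at hvv3))
  obtain ⟨P, B, hPB⟩ := exists_expansion hu hm hvv (v * v)
  have hev : ∀ f, σ (ev u hu f) = ev u hu (PowerSeries.rescale a f) :=
    map_ev σ.toAlgHom u hu a (hσu.trans (Algebra.smul_def a u).symm)
  obtain ⟨hP, hB⟩ : PowerSeries.rescale a P = P ∧ PowerSeries.C β * PowerSeries.rescale a B = B := by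
    refine expansion_unique hr hu hu1 hvy ?_
    have := congrArg σ hPB
    rw [map_mul, hσv, map_add, map_mul, hev, hev, hσv] at this
    have hb2 : A β * A β = 1 := by rw [← map_mul, ← pow_two, hβ, map_one]
    rw [map_mul, show ev u hu (PowerSeries.C β) = A β from (ev u hu).commutes β]
    linear_combination hPB - this + (v * v) * hb2
  obtain ⟨hPd, hBd⟩ := expansion_dvd hr hu hu1 hvy (n := 3) (hPB ▸ hvv3)
  have hB' : PowerSeries.rescale a B = PowerSeries.C β * B := by
    calc PowerSeries.rescale a B = PowerSeries.C (β ^ 2) * PowerSeries.rescale a B := by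
          rw [hβ, map_one, one_mul]
      _ = PowerSeries.C β * B := by rw [pow_two, map_mul, mul_assoc, hB]
  set v' : ring k r := v - A 2⁻¹ * ev u hu B with hv'def
  set Cs : P1 := P + PowerSeries.C (2⁻¹ * 2⁻¹) * (B * B) with hCdef
  have hevC : ∀ c : k, ev u hu (PowerSeries.C c) = A c := (ev u hu).commutes
  have hsq : v' * v' = ev u hu Cs := by
    have h1 : A 2⁻¹ + A 2⁻¹ = 1 := by
      rw [← map_add, show (2⁻¹ + 2⁻¹ : k) = 1 by field_simp; norm_num, map_one]
    rw [hv'def, hCdef, map_add, map_mul, hevC, map_mul A, map_mul]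
    linear_combination hPB - (ev u hu B * v) * h1
  have hCinv : PowerSeries.rescale a Cs = Cs := by
    have hc : PowerSeries.rescale a (PowerSeries.C (2⁻¹ * 2⁻¹ : k)) = PowerSeries.C (2⁻¹ * 2⁻¹) :=
      (rescaleA a).commutes _
    rw [hCdef, map_add (PowerSeries.rescale a), map_mul (PowerSeries.rescale a), hc,
      map_mul (PowerSeries.rescale a) B B, hP, hB']
    have : PowerSeries.C β * PowerSeries.C β = 1 := by rw [← map_mul, ← pow_two, hβ, map_one]
    linear_combination (PowerSeries.C (2⁻¹ * 2⁻¹) * (B * B)) * this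
  have hσv' : σ v' = A β * v' := by
    rw [hv'def, map_sub, hσv, map_mul σ (A 2⁻¹), hσA, hev, hB', map_mul, hevC]
    ring
  have hv'y : v' - ArSing.y k r ∈ 𝔪 ^ 2 := by
    rw [hv'def, sub_right_comm]
    refine sub_mem hvy (Ideal.mul_mem_left _ _ ?_)
    exact (coeff_fst_ev hr hu hu1 (fun m hm => coeff_eq_zero hBd hm)).2
  have hF : PowerSeries.X ^ 2 ∣ fst v' := by
    have := (inW_of_mem_pow hr1 hv'y).1
    simpa using this
  have hG : PowerSeries.constantCoeff (snd v') = 1 := by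
    have := coeff_snd_eq_zero hr1 hv'y (show 0 + 1 < 2 by norm_num)
    simpa [sub_eq_zero] using this
  have hGne : snd v' ≠ 0 := fun h => by simp [h] at hG
  have hC0 : Cs ≠ 0 := by
    intro h0
    rw [h0, map_zero] at hsq
    have h1 := congrArg snd hsq
    rw [snd_mul, snd_zero, mul_comm (snd v'), ← two_mul] at h1
    rcases mul_eq_zero.1 h1 with h | h
    · exact h2 (by simpa [map_ofNat] using congrArg PowerSeries.constantCoeff h)
    · rcases mul_eq_zero.1 h with h | h
      · have h3 := congrArg fst hsq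
        rw [fst_mul, fst_zero, h, zero_mul, zero_add] at h3
        exact hGne (mul_self_eq_zero.1 ((mul_eq_zero.1 h3).resolve_left (pow_ne_zero _ PowerSeries.X_ne_zero)))
      · exact hGne h
  obtain ⟨M, e, he0, hCe⟩ : ∃ M e, PowerSeries.constantCoeff e ≠ 0 ∧ Cs = PowerSeries.X ^ M * e :=
    ⟨Cs.order.toNat, PowerSeries.divXPowOrder Cs,
      fun h => hC0 (PowerSeries.constantCoeff_divXPowOrder_eq_zero_iff.1 h),
      (PowerSeries.X_pow_order_mul_divXPowOrder).symm⟩
  have hlow : ∀ m < M, PowerSeries.coeff m Cs = 0 := fun m hm => by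
    rw [hCe, PowerSeries.coeff_X_pow_mul', if_neg (by omega)]
  obtain ⟨hcM, hmemM⟩ := coeff_fst_ev hr hu hu1 hlow
  have hcMe : PowerSeries.coeff M Cs = PowerSeries.constantCoeff e := by
    rw [hCe, PowerSeries.coeff_X_pow_mul', if_pos le_rfl, Nat.sub_self,
      PowerSeries.coeff_zero_eq_constantCoeff_apply]
  have hv'm : v' ∈ 𝔪 := sub_mem hv (Ideal.mul_mem_left _ _
    (mem_max_iff.2 ((eps_ev u hu B).trans (coeff_eq_zero hBd (show 0 < 2 by norm_num) ▸
      (PowerSeries.coeff_zero_eq_constantCoeff_apply B).symm))))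
  have hM : M = r + 1 := by
    rw [← hsq] at hcM hmemM
    have hdv := (inW_of_mem_pow hr1 hmemM).2
    rw [snd_mul, mul_comm (snd v'), ← two_mul] at hdv
    have hu2 : IsUnit (2 * snd v' : P1) := PowerSeries.isUnit_iff_constantCoeff.2 (by
      rw [map_mul, map_ofNat, hG, mul_one]; exact isUnit_iff_ne_zero.2 h2)
    obtain ⟨F1, hF1⟩ : PowerSeries.X ^ (M - 1) ∣ fst v' := by
      rw [show 2 * (fst v' * snd v') = fst v' * (2 * snd v') by ring, hu2.dvd_mul_right] at hdv
      exact hdv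
    have hM3 : 3 ≤ M := by
      by_contra hlt
      have h3 : v' * v' ∈ 𝔪 ^ 3 := by
        rw [show v' * v' = ArSing.y k r ^ 2 + (v' - ArSing.y k r) * (v' + ArSing.y k r) by ring]
        refine add_mem hy2 ?_
        rw [show (3 : ℕ) = 2 + 1 from rfl, pow_succ]
        exact Ideal.mul_mem_mul hv'y (add_mem hv'm y_mem_max)
      rw [coeff_fst_eq_zero hr1 h3 (by omega), hcMe] at hcM
      exact he0 hcM.symm
    have hsplit : fst (v' * v') = PowerSeries.X ^ (M - 1 + (M - 1)) * (F1 * F1) +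
        PowerSeries.X ^ (r + 1) * (snd v' * snd v') := by
      rw [fst_mul, hF1]; ring
    rcases lt_trichotomy M (r + 1) with hlt | heq | hgt
    · exfalso
      rw [hsplit, map_add, PowerSeries.coeff_X_pow_mul', if_neg (by omega),
        PowerSeries.coeff_X_pow_mul', if_neg (by omega), add_zero, hcMe] at hcM
      exact he0 hcM.symm
    · exact heq
    · exfalso
      have h0 := coeff_fst_eq_zero hr1 hmemM hgt
      rw [hsplit, map_add, PowerSeries.coeff_X_pow_mul', if_neg (by omega),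
        PowerSeries.coeff_X_pow_mul', if_pos le_rfl, zero_add, Nat.sub_self,
        PowerSeries.coeff_zero_eq_constantCoeff_apply, map_mul, hG, one_mul] at h0
      exact one_ne_zero h0
  subst hM
  have haN : a ^ (r + 1) = 1 := by
    have := congrArg (PowerSeries.coeff (r + 1)) hCinv
    rw [PowerSeries.coeff_rescale, hcMe] at this
    exact mul_right_cancel₀ he0 (this.trans (one_mul _).symm)
  have heinv : PowerSeries.rescale a e = e := by
    refine mul_left_cancel₀ (pow_ne_zero (r + 1) (PowerSeries.X_ne_zero (R := k))) ?_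
    have := hCinv
    rw [hCe, map_mul, map_pow, PowerSeries.rescale_X, mul_pow, ← map_pow, haN, map_one, one_mul] at this
    exact this
  obtain ⟨s, hs, hs0⟩ := exists_sqrt h2 e he0
  have hsinv : PowerSeries.rescale a s = s := sign_of_rescale h2 hs0 (by rw [hs, heinv])
  obtain ⟨su, hsu⟩ : IsUnit s :=
    PowerSeries.isUnit_iff_constantCoeff.2 (isUnit_iff_ne_zero.2 hs0)
  set t : P1 := ↑su⁻¹ with ht
  have hts : t * s = 1 := by rw [← hsu, ht]; exact Units.inv_mul su
  have htinv : PowerSeries.rescale a t = t := by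
    have := congrArg (PowerSeries.rescale a) hts
    rw [map_mul, hsinv, map_one] at this
    exact mul_right_cancel₀ (fun h => hs0 (by simp [h])) (this.trans hts.symm)
  set w : ring k r := v' * ev u hu t with hwdef
  have hw2 : w ^ 2 = u ^ (r + 1) := by
    rw [hwdef, mul_pow, pow_two v', hsq, hCe, map_mul, map_pow, ev_X, ← hs, mul_assoc, ← map_pow,
      ← map_mul, show s * s * t ^ 2 = 1 by linear_combination (t * s + 1) * hts, map_one, mul_one]
  have hwm : w ∈ 𝔪 := Ideal.mul_mem_right _ _ hv'm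
  have hspan : Ideal.span {u, v'} ≤ Ideal.span {u, w} := by
    rw [Ideal.span_le]
    refine Set.pair_subset (Ideal.subset_span (by simp)) ?_
    have : v' = w * ev u hu s := by
      rw [hwdef, mul_assoc, ← map_mul, hts, map_one, mul_one]
    rw [SetLike.mem_coe, this]
    exact Ideal.mul_mem_right _ _ (Ideal.subset_span (by simp))
  have hww : w * w ∈ Ideal.span {u} := by
    rw [← pow_two, hw2, pow_succ]
    exact Ideal.mul_mem_left _ _ (Ideal.mem_span_singleton_self u)
  obtain ⟨φ, hφx, hφy⟩ := exists_aut hu hwm hw2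
    ((max_le_span _ hux hv'y).trans hspan) hww
  refine ⟨φ, a, β, ha, hβ, haN, ?_, ?_⟩
  · rw [AlgEquiv.symm_apply_eq, hφx, hσu, map_smul, hφx]
    exact (Algebra.smul_def a u).symm
  · rw [AlgEquiv.symm_apply_eq, hφy, map_smul, hφy, hwdef, map_mul, hσv', hev, htinv, mul_assoc]
    exact (Algebra.smul_def β _).symm

end Groth.Agent.Ar2
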