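import Groth.Agent.Ar2.Small

/-!
Fixed loci and invariants of involutions of `k[[x,y]]/(y^2 - x^(r+1))`.
-/

set_option autoImplicit false

universe u

open ArSing

namespace Groth.Agent.Ar2

variable {k : Type u} [Field k] {r : ℕ}

local notation "P1" => PowerSeries k

/-- Substitution of `X^2`. -/
noncomputable def sqv : P1 →ₐ[k] P1 := PowerSeries.expand 2 two_ne_zero

lemma sqv_X : sqv (PowerSeries.X : P1) = PowerSeries.X ^ 2 := PowerSeries.expand_X 2 two_ne_zero

lemma coeff_sqv (f : P1) (n : ℕ) :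
    PowerSeries.coeff n (sqv f) = if 2 ∣ n then PowerSeries.coeff (n / 2) f else 0 := by
  split_ifs with h
  · obtain ⟨c, rfl⟩ := h
    rw [sqv, PowerSeries.coeff_expand_mul, Nat.mul_div_cancel_left _ two_pos]
  · exact PowerSeries.coeff_expand_of_not_dvd _ _ _ h

lemma sqv_injective : Function.Injective (sqv (k := k)) := fun f g h => by
  ext n
  have := congrArg (PowerSeries.coeff (2 * n)) h
  simpa [coeff_sqv] using this

lemma sqv_split (f : P1) : ∃ f0 f1 : P1, f = sqv f0 + PowerSeries.X * sqv f1 := by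
  refine ⟨PowerSeries.mk fun i => PowerSeries.coeff (2 * i) f,
    PowerSeries.mk fun i => PowerSeries.coeff (2 * i + 1) f, ?_⟩
  ext n
  rcases Nat.even_or_odd' n with ⟨c, rfl | rfl⟩
  · rcases c with _ | c
    · rw [map_add, coeff_sqv, if_pos (dvd_mul_right 2 0), PowerSeries.coeff_zero_X_mul, add_zero,
        Nat.mul_div_cancel_left _ two_pos, PowerSeries.coeff_mk]
    · rw [map_add, coeff_sqv, if_pos (dvd_mul_right 2 _), Nat.mul_div_cancel_left _ two_pos,
        show 2 * (c + 1) = 2 * c + 1 + 1 by ring, PowerSeries.coeff_succ_X_mul, coeff_sqv,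
        if_neg (by omega), add_zero, PowerSeries.coeff_mk]
      rfl
  · rw [map_add, coeff_sqv, if_neg (by omega), zero_add, PowerSeries.coeff_succ_X_mul, coeff_sqv,
      if_pos (dvd_mul_right 2 _), Nat.mul_div_cancel_left _ two_pos, PowerSeries.coeff_mk]

lemma rescale_sqv (f : P1) : PowerSeries.rescale (-1 : k) (sqv f) = sqv f := by
  ext n
  rw [PowerSeries.coeff_rescale, coeff_sqv]
  split_ifs with h
  · obtain ⟨c, rfl⟩ := h
    rw [pow_mul, neg_one_sq, one_pow, one_mul]
  · rw [mul_zero]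

lemma rescale_X_neg : PowerSeries.rescale (-1 : k) (PowerSeries.X : P1) = -PowerSeries.X := by
  rw [PowerSeries.rescale_X]; simp

/-- Fixed points of `X ↦ -X`. -/
lemma rescale_eq_self_iff (h2 : (2 : k) ≠ 0) (f : P1) :
    PowerSeries.rescale (-1 : k) f = f ↔ ∃ g, f = sqv g := by
  refine ⟨fun h => ?_, fun ⟨g, hg⟩ => by rw [hg, rescale_sqv]⟩
  obtain ⟨f0, f1, rfl⟩ := sqv_split f
  have h2' : (2 : P1) ≠ 0 := fun e => h2 (by simpa [map_ofNat] using congrArg PowerSeries.constantCoeff e)
  rw [map_add, map_mul, rescale_sqv, rescale_sqv, rescale_X_neg] at h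
  have h1 : (2 * PowerSeries.X) * sqv f1 = 0 := by linear_combination -h
  rw [(mul_eq_zero.1 h1).resolve_left (mul_ne_zero h2' PowerSeries.X_ne_zero), mul_zero, add_zero]
  exact ⟨f0, rfl⟩

/-- Fixed points of `f ↦ -f(-X)`. -/
lemma rescale_eq_neg_iff (h2 : (2 : k) ≠ 0) (f : P1) :
    PowerSeries.rescale (-1 : k) f = -f ↔ ∃ g, f = PowerSeries.X * sqv g := by
  refine ⟨fun h => ?_, fun ⟨g, hg⟩ => by rw [hg, map_mul, rescale_sqv, rescale_X_neg, neg_mul]⟩
  obtain ⟨f0, f1, rfl⟩ := sqv_split f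
  have h2' : (2 : P1) ≠ 0 := fun e => h2 (by simpa [map_ofNat] using congrArg PowerSeries.constantCoeff e)
  rw [map_add, map_mul, rescale_sqv, rescale_sqv, rescale_X_neg] at h
  have h1 : (2 : P1) * sqv f0 = 0 := by linear_combination h
  rw [(mul_eq_zero.1 h1).resolve_left h2', zero_add]
  exact ⟨f1, rfl⟩

/-- Flatness from a two-element basis. -/
theorem flat_of_basis {R S : Type*} [CommRing R] [CommRing S] (f : R →+* S) (e : S)
    (h : Function.Bijective fun p : R × R => f p.1 + e * f p.2) : f.Flat := by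
  let := f.toAlgebra
  change Module.Flat R S
  let L : (R × R) →ₗ[R] S :=
    { toFun := fun p => f p.1 + e * f p.2
      map_add' := fun p q => by simp only [Prod.fst_add, Prod.snd_add, map_add]; ring
      map_smul' := fun c p => by
        simp only [Prod.smul_fst, Prod.smul_snd, smul_eq_mul, map_mul, RingHom.id_apply]
        rw [Algebra.smul_def, RingHom.algebraMap_toAlgebra]
        ring }
  exact Module.Flat.of_linearEquiv (LinearEquiv.ofBijective L h).symm

theorem flat_relation {R S : Type*} [CommRing R] [CommRing S] (f : R →+* S) (hf : f.Flat) {n : ℕ}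
    (c : Fin n → R) (x : Fin n → S) (h : ∑ i, f (c i) * x i = 0) :
    ∃ (J : ℕ) (a : Fin n → Fin J → R) (z : Fin J → S),
      (∀ i, x i = ∑ j, f (a i j) * z j) ∧ ∀ j, ∑ i, c i * a i j = 0 := by
  let := f.toAlgebra
  have : Module.Flat R S := hf
  obtain ⟨J, a, z, hz, ha⟩ := Module.Flat.isTrivialRelation_of_sum_smul_eq_zero (R := R) (M := S)
    (f := c) (x := x) (by simpa [Algebra.smul_def, RingHom.algebraMap_toAlgebra] using h)
  exact ⟨J, a, z, fun i => by simpa [Algebra.smul_def, RingHom.algebraMap_toAlgebra] using hz i, ha⟩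

lemma map_xMap (σ : ring k r →ₐ[k] ring k r) {a : k} (hx : σ (ArSing.x k r) = a • ArSing.x k r)
    (f : P1) : σ (xMap k r f) = xMap k r (PowerSeries.rescale a f) := by
  simpa [ev_eq_xMap] using map_ev σ (ArSing.x k r) x_mem_max a hx f

lemma apply_eq (σ : ring k r →ₐ[k] ring k r) {a b : k} (hx : σ (ArSing.x k r) = a • ArSing.x k r)
    (hy : σ (ArSing.y k r) = b • ArSing.y k r) (z : ring k r) :
    fst (σ z) = PowerSeries.rescale a (fst z) ∧
      snd (σ z) = PowerSeries.C b * PowerSeries.rescale a (snd z) := by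
  refine comps_eq ?_
  conv_lhs => rw [← repr_eq z]
  rw [map_add, map_mul, map_xMap σ hx, map_xMap σ hx, hy, map_mul, xMap_C,
    show b • ArSing.y k r = algebraMap k _ b * ArSing.y k r from Algebra.smul_def b (ArSing.y k r)]
  ring

lemma x_mem_nonZeroDivisors : ArSing.x k r ∈ nonZeroDivisors (ring k r) := by
  refine mem_nonZeroDivisors_iff_right.2 fun a ha => ?_
  have h1 := congrArg fst ha
  have h2 := congrArg snd ha
  simp only [fst_mul, snd_mul, fst_x, snd_x, mul_zero, add_zero, fst_zero, snd_zero] at h1 h2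
  exact comps_ext (by rw [fst_zero]; exact (mul_eq_zero.1 h1).resolve_right PowerSeries.X_ne_zero)
    (by rw [snd_zero]; simpa [PowerSeries.X_ne_zero] using h2)

lemma y_mem_nonZeroDivisors : ArSing.y k r ∈ nonZeroDivisors (ring k r) := by
  have : ArSing.y k r ^ 2 ∈ nonZeroDivisors (ring k r) := by
    rw [y_sq']; exact pow_mem x_mem_nonZeroDivisors _
  rw [pow_two] at this
  exact (mul_mem_nonZeroDivisors.1 this).1

lemma mem_span_x_iff {a : ring k r} :
    a ∈ Ideal.span {ArSing.x k r} ↔ PowerSeries.X ∣ fst a ∧ PowerSeries.X ∣ snd a := by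
  rw [Ideal.mem_span_singleton]
  refine ⟨fun ⟨c, hc⟩ => by rw [hc]; simp, fun ⟨⟨f, hf⟩, ⟨g, hg⟩⟩ => ?_⟩
  refine ⟨xMap k r f + ArSing.y k r * xMap k r g, ?_⟩
  rw [← repr_eq a, hf, hg, map_mul, map_mul, xMap_X]
  ring

/-- `A/(x)` has length two. -/
theorem ord_x : Ring.ord (ring k r) (ArSing.x k r) = 2 := by
  set I := Ideal.span {ArSing.x k r}
  set m := IsLocalRing.maximalIdeal (ring k r)
  have hIm : I ≤ m := (Ideal.span_singleton_le_iff_mem _).2 x_mem_max
  have hym : ∀ a ∈ m, a * ArSing.y k r ∈ I := by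
    intro a ha
    rw [mem_span_x_iff]
    refine ⟨?_, ?_⟩
    · rw [fst_mul, fst_y, mul_zero, zero_add, pow_succ']
      exact Dvd.dvd.mul_right (dvd_mul_right _ _) _
    · simpa [PowerSeries.X_dvd_iff] using mem_max_iff.1 ha
  let f : (ring k r ⧸ m) →ₗ[ring k r] (ring k r ⧸ I) :=
    Submodule.mapQ m I (LinearMap.mulRight (ring k r) (ArSing.y k r)) fun a ha => hym a ha
  let g : (ring k r ⧸ I) →ₗ[ring k r] (ring k r ⧸ m) := Submodule.factor hIm
  have hsimp : IsSimpleModule (ring k r) (ring k r ⧸ m) :=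
    isSimpleModule_iff_isCoatom.2 (IsLocalRing.maximalIdeal.isMaximal _).out
  have hfinj : Function.Injective f := by
    rw [injective_iff_map_eq_zero]
    intro z hz
    obtain ⟨a, rfl⟩ := Submodule.Quotient.mk_surjective _ z
    change (Submodule.Quotient.mk (a * ArSing.y k r) : ring k r ⧸ I) = 0 at hz
    rw [Submodule.Quotient.mk_eq_zero, mem_span_x_iff] at hz
    rw [Submodule.Quotient.mk_eq_zero, mem_max_iff]
    simpa [PowerSeries.X_dvd_iff] using hz.2
  have hex : Function.Exact f g := by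
    intro z
    obtain ⟨a, rfl⟩ := Submodule.Quotient.mk_surjective _ z
    constructor
    · intro hz
      have ha : a ∈ m := (Submodule.Quotient.mk_eq_zero m).1 hz
      refine ⟨Submodule.Quotient.mk (algebraMap k _ (PowerSeries.constantCoeff (snd a))), ?_⟩
      change (Submodule.Quotient.mk (algebraMap k _ (PowerSeries.constantCoeff (snd a)) *
        ArSing.y k r) : ring k r ⧸ I) = Submodule.Quotient.mk a
      refine (Submodule.Quotient.eq I).2 (mem_span_x_iff.2 ⟨?_, ?_⟩)
      · simpa [PowerSeries.X_dvd_iff] using mem_max_iff.1 ha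
      · simp [PowerSeries.X_dvd_iff]
    · rintro ⟨w, hw⟩
      obtain ⟨b, rfl⟩ := Submodule.Quotient.mk_surjective _ w
      rw [← hw]
      change (Submodule.Quotient.mk (b * ArSing.y k r) : ring k r ⧸ m) = 0
      exact (Submodule.Quotient.mk_eq_zero m).2 (Ideal.mul_mem_left _ _ y_mem_max)
  have hg : Function.Surjective g := Submodule.factor_surjective hIm
  have h1 : Module.length (ring k r) (ring k r ⧸ m) = 1 := Module.length_eq_one_iff.2 hsimp
  have h3 := Module.length_eq_add_of_exact (R := ring k r) f g hfinj hg hex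
  rw [h1] at h3
  exact h3

lemma ord_eq_of_sq_eq {R : Type*} [CommRing R] {x y : R} (hx : x ∈ nonZeroDivisors R)
    (hy : y ∈ nonZeroDivisors R) {N : ℕ} (e : y ^ 2 = x ^ N) (ox : Ring.ord R x = 2) :
    Ring.ord R y = N := by
  have h := congrArg (Ring.ord R) e
  rw [Ring.ord_pow hy, Ring.ord_pow hx, ox] at h
  cases hy' : Ring.ord R y with
  | top => rw [hy'] at h; simp at h; exact absurd h (ENat.top_ne_natCast (N * 2))
  | coe n =>
    rw [hy'] at h
    simp only [nsmul_eq_mul] at h
    norm_cast at h ⊢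
    omega

/-- `A/(y)` has length `r + 1`. -/
theorem ord_y : Ring.ord (ring k r) (ArSing.y k r) = r + 1 := by
  have hx := x_mem_nonZeroDivisors (k := k) (r := r)
  have hy := y_mem_nonZeroDivisors (k := k) (r := r)
  have he := y_sq' (k := k) (r := r)
  have ho := ord_x (k := k) (r := r)
  have := @ord_eq_of_sq_eq (ring k r) _ (ArSing.x k r) (ArSing.y k r) hx hy (r + 1) he ho
  rw [this, Nat.cast_add, Nat.cast_one]

theorem hom_ext_ps {F G : ring k r →ₐ[k] P1} (hx : F (ArSing.x k r) = G (ArSing.x k r))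
    (hy : F (ArSing.y k r) = G (ArSing.y k r)) : F = G := by
  have h := endo_ext (φ := (xMap k r).comp F) (ψ := (xMap k r).comp G) (by simp [hx]) (by simp [hy])
  exact AlgHom.ext fun a => xMap_injective (DFunLike.congr_fun h a)

lemma map_max_le {s : ℕ} (φ : ring k s →ₐ[k] ring k r) (I : Ideal (ring k r))
    (hx : φ (ArSing.x k s) ∈ I) (hy : φ (ArSing.y k s) ∈ I) :
    Ideal.map φ (IsLocalRing.maximalIdeal (ring k s)) ≤ I := by
  rw [max_eq_span, Ideal.map_span, Ideal.span_le]
  rintro _ ⟨z, hz, rfl⟩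
  rcases hz with rfl | hz
  · exact hx
  · rw [Set.mem_singleton_iff] at hz; subst hz; exact hy

theorem neg_y_fixed (h2 : (2 : k) ≠ 0) (σ : ring k r ≃ₐ[k] ring k r)
    (hx : σ (ArSing.x k r) = ArSing.x k r) (hy : σ (ArSing.y k r) = -ArSing.y k r) :
    (∀ a, σ a = a ↔ a ∈ (xMap k r).range) ∧
      Ideal.span (Set.range fun a => σ a - a) = Ideal.span {ArSing.y k r} := by
  have hc : ∀ z, fst (σ z) = fst z ∧ snd (σ z) = -snd z := fun z => by
    simpa using apply_eq σ.toAlgHom (a := 1) (b := -1) (hx.trans (one_smul k _).symm)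
      (hy.trans (neg_one_smul k (ArSing.y k r)).symm) z
  refine ⟨fun a => ⟨fun h => ⟨fst a, ?_⟩, ?_⟩, le_antisymm ?_ ?_⟩
  · have h0 := (hc a).2
    rw [h] at h0
    have h2' : (2 : P1) ≠ 0 := fun e => h2 (by simpa [map_ofNat] using congrArg PowerSeries.constantCoeff e)
    refine comps_ext (fst_xMap _) ?_
    refine (snd_xMap (fst a)).trans ?_
    exact ((mul_eq_zero.1 (show (2 : P1) * snd a = 0 by linear_combination h0)).resolve_left h2').symm
  · rintro ⟨f, rfl⟩
    refine comps_ext (hc _).1 ((hc _).2.trans ?_)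
    simp
  · rw [Ideal.span_le]
    rintro _ ⟨a, rfl⟩
    have e : σ a - a = ArSing.y k r * xMap k r (-2 * snd a) := comps_ext
      (by simp [(hc a).1]) (by simp [(hc a).2]; ring)
    change σ a - a ∈ _
    rw [e]
    exact Ideal.mul_mem_right _ _ (Ideal.mem_span_singleton_self _)
  · rw [Ideal.span_singleton_le_iff_mem]
    have := Ideal.mul_mem_left (Ideal.span (Set.range fun a => σ a - a))
      (algebraMap k _ (-2⁻¹)) (Ideal.subset_span ⟨ArSing.y k r, rfl⟩)
    convert this using 1
    refine comps_ext (by simp [hy]) ?_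
    simp [hy]
    rw [show ((-1 - 1 : P1)) = PowerSeries.C (-2 : k) by rw [map_neg, map_ofNat]; ring, ← map_mul,
      ← map_neg]
    simp [h2]

end Groth.Agent.Ar2
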