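import Groth.Agent.Ar2.Repr

/-!
Homomorphisms into and endomorphisms of `k[[x,y]]/(y^2 - x^(r+1))`.
-/

set_option autoImplicit false

universe u

open ArSing

namespace Groth.Agent.Ar2

variable {k : Type u} [Field k] {r : ℕ}

local notation "P2" => MvPowerSeries (Fin 2) k
local notation "P1" => PowerSeries k

lemma eps_mk (F : P2) :
    eps (Ideal.Quotient.mk (Ideal.span {eqn k r}) F) = MvPowerSeries.constantCoeff F := by
  have h : Ideal.Quotient.mk (Ideal.span {eqn k r}) F =
      xMap k r (part r 0 F) + ArSing.y k r * xMap k r (part r 1 F) := by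
    rw [xMap_eq, xMap_eq, ← map_mul, ← map_add, Ideal.Quotient.eq, Ideal.mem_span_singleton]
    exact ⟨quot r F, sub_eq_iff_eq_add'.2 (division F)⟩
  change PowerSeries.constantCoeff (fst _) = _
  rw [(comps_eq h).1, ← PowerSeries.coeff_zero_eq_constantCoeff_apply, part, PowerSeries.coeff_mk]
  simp [cf, ex]

lemma exists_lift {u : ring k r} (hu : u ∈ IsLocalRing.maximalIdeal (ring k r)) :
    ∃ F : P2, Ideal.Quotient.mk _ F = u ∧ MvPowerSeries.constantCoeff F = 0 := by
  obtain ⟨F, rfl⟩ := Ideal.Quotient.mk_surjective u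
  exact ⟨F, rfl, (eps_mk F).symm.trans (mem_max_iff.1 hu)⟩

/-- Evaluation of a power series at a point of the maximal ideal. -/
noncomputable def ev (u : ring k r) (hu : u ∈ IsLocalRing.maximalIdeal (ring k r)) :
    P1 →ₐ[k] ring k r :=
  (Ideal.Quotient.mkₐ k _).comp
    (PowerSeries.substAlgHom (PowerSeries.HasSubst.of_constantCoeff_zero (exists_lift hu).choose_spec.2))

@[simp] lemma ev_X (u : ring k r) (hu : u ∈ IsLocalRing.maximalIdeal (ring k r)) :
    ev u hu PowerSeries.X = u := by
  rw [ev, AlgHom.comp_apply, PowerSeries.coe_substAlgHom, PowerSeries.subst_X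
    (PowerSeries.HasSubst.of_constantCoeff_zero (exists_lift hu).choose_spec.2)]
  exact (exists_lift hu).choose_spec.1

lemma algHom_X_mem (F : P1 →ₐ[k] ring k r) :
    F PowerSeries.X ∈ IsLocalRing.maximalIdeal (ring k r) := by
  rw [mem_max_iff]
  by_contra h
  set c := PowerSeries.constantCoeff (fst (F PowerSeries.X)) with hc
  have hu : IsUnit (PowerSeries.X - PowerSeries.C c : P1) :=
    PowerSeries.isUnit_iff_constantCoeff.2 (by simpa using h)
  have h2 := (hu.map F).map (eps (k := k) (r := r))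
  rw [map_sub] at h2
  have hFC : F (PowerSeries.C c) = algebraMap k (ring k r) c := F.commutes c
  rw [hFC, map_sub, AlgHom.commutes] at h2
  exact h2.ne_zero (sub_eq_zero.2 rfl)

theorem psHom_ext {F G : P1 →ₐ[k] ring k r} (h : F PowerSeries.X = G PowerSeries.X) : F = G := by
  have hp : ∀ p : Polynomial k, F p = G p := fun p => by
    change F.comp (Polynomial.coeToPowerSeries.algHom k) p = G.comp (Polynomial.coeToPowerSeries.algHom k) p
    exact DFunLike.congr_fun (Polynomial.algHom_ext (by simpa using h)) p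
  refine AlgHom.ext fun f => sub_eq_zero.1 (eq_zero_of_forall_mem fun n => ?_)
  rw [PowerSeries.eq_X_pow_mul_shift_add_trunc n f]
  simp only [map_add, map_mul, map_pow, hp, add_sub_add_right_eq_sub, ← h, ← mul_sub]
  exact Ideal.mul_mem_right _ _ (Ideal.pow_mem_pow (algHom_X_mem F) n)

lemma ev_eq_xMap : ev (ArSing.x k r) x_mem_max = xMap k r :=
  psHom_ext (by rw [ev_X, xMap_X])

theorem endo_ext {φ ψ : ring k r →ₐ[k] ring k r} (hx : φ (ArSing.x k r) = ψ (ArSing.x k r))
    (hy : φ (ArSing.y k r) = ψ (ArSing.y k r)) : φ = ψ := by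
  refine AlgHom.ext fun a => ?_
  have h : φ.comp (xMap k r) = ψ.comp (xMap k r) := psHom_ext (by simpa [xMap_X] using hx)
  have := DFunLike.congr_fun h
  simp only [AlgHom.comp_apply] at this
  rw [← repr_eq a, map_add, map_mul, map_add, map_mul, this, this, hy]

theorem aut_ext {φ ψ : ring k r ≃ₐ[k] ring k r} (hx : φ (ArSing.x k r) = ψ (ArSing.x k r))
    (hy : φ (ArSing.y k r) = ψ (ArSing.y k r)) : φ = ψ :=
  AlgEquiv.ext fun a => DFunLike.congr_fun
    (endo_ext (φ := φ.toAlgHom) (ψ := ψ.toAlgHom) hx hy) a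

/-- The homomorphism between two such algebras given by the images of `x` and `y`. -/
theorem exists_hom {s : ℕ} {u w : ring k r} (hu : u ∈ IsLocalRing.maximalIdeal (ring k r))
    (hw : w ∈ IsLocalRing.maximalIdeal (ring k r)) (h : w ^ 2 = u ^ (s + 1)) :
    ∃ φ : ring k s →ₐ[k] ring k r, φ (ArSing.x k s) = u ∧ φ (ArSing.y k s) = w := by
  obtain ⟨U, hU, hU0⟩ := exists_lift hu
  obtain ⟨W, hW, hW0⟩ := exists_lift hw
  have hs : MvPowerSeries.HasSubst ![U, W] :=
    MvPowerSeries.hasSubst_of_constantCoeff_zero fun i => by fin_cases i <;> assumption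
  let ψ : P2 →ₐ[k] ring k r := (Ideal.Quotient.mkₐ k _).comp (MvPowerSeries.substAlgHom hs)
  have h0 : ψ (MvPowerSeries.X 0) = u := by
    simp only [ψ, AlgHom.comp_apply, MvPowerSeries.substAlgHom_X]
    exact hU
  have h1 : ψ (MvPowerSeries.X 1) = w := by
    simp only [ψ, AlgHom.comp_apply, MvPowerSeries.substAlgHom_X]
    exact hW
  have hker : ∀ a ∈ Ideal.span {eqn k s}, ψ a = 0 := by
    intro a ha
    obtain ⟨c, rfl⟩ := Ideal.mem_span_singleton.1 ha
    have he : ψ (MvPowerSeries.X 1 ^ 2 - MvPowerSeries.X 0 ^ (s + 1)) = 0 := by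
      rw [map_sub, map_pow, map_pow, h0, h1, h, sub_self]
    rw [map_mul, show ψ (eqn k s) = 0 from he, zero_mul]
  exact ⟨Ideal.Quotient.liftₐ _ ψ hker, h0, h1⟩

/-- Rescaling of the variable. -/
noncomputable def rescaleA (c : k) : P1 →ₐ[k] P1 :=
  { PowerSeries.rescale c with
    commutes' := fun a => by
      ext n
      change PowerSeries.coeff n (PowerSeries.rescale c (PowerSeries.C a)) = PowerSeries.coeff n (PowerSeries.C a)
      rw [PowerSeries.coeff_rescale, PowerSeries.coeff_C]
      split_ifs with hn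
      · rw [hn, pow_zero, one_mul]
      · rw [mul_zero] }

@[simp] lemma rescaleA_apply (c : k) (f : P1) : rescaleA c f = PowerSeries.rescale c f := rfl

lemma map_ev (φ : ring k r →ₐ[k] ring k r) (u : ring k r)
    (hu : u ∈ IsLocalRing.maximalIdeal (ring k r)) (c : k) (hc : φ u = c • u) (f : P1) :
    φ (ev u hu f) = ev u hu (PowerSeries.rescale c f) := by
  have h : φ.comp (ev u hu) = (ev u hu).comp (rescaleA c) := psHom_ext (by
    rw [AlgHom.comp_apply, AlgHom.comp_apply, ev_X, hc, rescaleA_apply, PowerSeries.rescale_X,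
      map_mul, ev_X]
    exact (Algebra.smul_def c u).trans (congrArg (· * u) ((ev u hu).commutes c).symm))
  simpa using DFunLike.congr_fun h f

lemma eps_ev (u : ring k r) (hu : u ∈ IsLocalRing.maximalIdeal (ring k r)) (f : P1) :
    eps (ev u hu f) = PowerSeries.constantCoeff f := by
  obtain ⟨g, hg⟩ := PowerSeries.X_dvd_iff.2
    (show PowerSeries.constantCoeff (f - PowerSeries.C (PowerSeries.constantCoeff f)) = 0 by simp)
  rw [sub_eq_iff_eq_add] at hg
  have hC : ev u hu (PowerSeries.C (PowerSeries.constantCoeff f)) = algebraMap k _ (PowerSeries.constantCoeff f) :=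
    (ev u hu).commutes _
  conv_lhs => rw [hg]
  rw [map_add, map_mul, ev_X, hC, map_add, map_mul, AlgHom.commutes,
    show eps u = 0 from mem_max_iff.1 hu]
  simp

/-- Two-term expansions in suitable generators. -/
theorem exists_expansion {u v : ring k r} (hu : u ∈ IsLocalRing.maximalIdeal (ring k r))
    (hm : IsLocalRing.maximalIdeal (ring k r) ≤ Ideal.span {u, v}) (hvv : v * v ∈ Ideal.span {u})
    (a : ring k r) : ∃ f g : P1, a = ev u hu f + ev u hu g * v := by
  obtain ⟨γ, hγ⟩ := Ideal.mem_span_singleton'.1 hvv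
  have step : ∀ a : ring k r, ∃ (c d : k) (a' : ring k r),
      a = algebraMap k _ c + algebraMap k _ d * v + u * a' := by
    have h1 : ∀ a : ring k r, ∃ (c : k) (α β : ring k r), a = algebraMap k _ c + u * α + v * β := by
      intro a
      have ha : a - algebraMap k _ (eps a) ∈ IsLocalRing.maximalIdeal (ring k r) :=
        mem_max_iff.2 (by simp [show eps a = PowerSeries.constantCoeff (fst a) from rfl])
      obtain ⟨α, β, h⟩ := Ideal.mem_span_pair.1 (hm ha)
      exact ⟨eps a, α, β, by linear_combination -h⟩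
    intro a
    obtain ⟨c, α, β, h⟩ := h1 a
    obtain ⟨d, α', β', h'⟩ := h1 β
    exact ⟨c, d, α + v * α' + γ * β', by linear_combination h + v * h' - β' * hγ⟩
  choose c d a' hstep using step
  let s : ℕ → ring k r := fun n => a'^[n] a
  let f : P1 := PowerSeries.mk fun n => c (s n)
  let g : P1 := PowerSeries.mk fun n => d (s n)
  have hP : ∀ n, a = ∑ i ∈ Finset.range n,
      (algebraMap k _ (c (s i)) + algebraMap k _ (d (s i)) * v) * u ^ i + u ^ n * s n := by
    intro n
    induction n with
    | zero => simp [s]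
    | succ n ih =>
      rw [Finset.sum_range_succ]
      have e : s (n + 1) = a' (s n) := Function.iterate_succ_apply' a' n a
      rw [e]
      linear_combination ih + u ^ n * hstep (s n)
  have htrunc : ∀ (h : P1) (n : ℕ), ev u hu h - ∑ i ∈ Finset.range n,
      algebraMap k _ (PowerSeries.coeff i h) * u ^ i ∈ IsLocalRing.maximalIdeal (ring k r) ^ n := by
    intro h n
    have hev := congrArg (ev u hu) (PowerSeries.eq_X_pow_mul_shift_add_trunc n h)
    have hp : ∀ p : Polynomial k, ev u hu p = Polynomial.aeval u p := fun p => by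
      change (ev u hu).comp (Polynomial.coeToPowerSeries.algHom k) p = _
      exact DFunLike.congr_fun (Polynomial.algHom_ext (by simp)) p
    rw [map_add, map_mul, map_pow, ev_X, hp, PowerSeries.trunc_apply, map_sum] at hev
    rw [hev]
    simp only [Polynomial.aeval_monomial, ← Finset.range_eq_Ico]
    rw [add_sub_cancel_right]
    exact Ideal.mul_mem_right _ _ (Ideal.pow_mem_pow hu n)
  refine ⟨f, g, sub_eq_zero.1 (eq_zero_of_forall_mem fun n => ?_)⟩
  have h1 := htrunc f n
  have h2 := htrunc g n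
  simp only [f, g, PowerSeries.coeff_mk] at h1 h2
  have e : a - (ev u hu f + ev u hu g * v) = u ^ n * s n -
      ((ev u hu f - ∑ i ∈ Finset.range n, algebraMap k _ (c (s i)) * u ^ i) +
        (ev u hu g - ∑ i ∈ Finset.range n, algebraMap k _ (d (s i)) * u ^ i) * v) := by
    have := hP n
    simp only [add_mul, mul_right_comm _ v, Finset.sum_add_distrib, ← Finset.sum_mul] at this
    linear_combination this
  rw [e]
  exact sub_mem (Ideal.mul_mem_right _ _ (Ideal.pow_mem_pow hu n))
    (add_mem h1 (Ideal.mul_mem_right _ _ h2))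

lemma endo_injective_of_surjective {R : Type*} [CommRing R] [IsNoetherianRing R] (φ : R →+* R)
    (h : Function.Surjective φ) : Function.Injective φ := by
  let K : ℕ →o Ideal R :=
    { toFun := fun n => RingHom.ker (φ ^ n)
      monotone' := monotone_nat_of_le_succ fun n a ha => by
        rw [RingHom.mem_ker] at ha ⊢
        rw [RingHom.coe_pow] at ha ⊢
        rw [Function.iterate_succ_apply', ha, map_zero] }
  obtain ⟨n, hn⟩ := monotone_stabilizes_iff_noetherian.2 inferInstance K
  rw [injective_iff_map_eq_zero]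
  intro a ha
  obtain ⟨b, rfl⟩ := h.iterate n a
  have hb : b ∈ K (n + 1) := by
    change (φ ^ (n + 1)) b = 0
    rwa [RingHom.coe_pow, Function.iterate_succ_apply']
  rw [← hn (n + 1) (Nat.le_succ n)] at hb
  change (φ ^ n) b = 0 at hb
  rwa [RingHom.coe_pow] at hb

/-- The automorphism given by a pair of suitable generators. -/
theorem exists_aut {u w : ring k r} (hu : u ∈ IsLocalRing.maximalIdeal (ring k r))
    (hw : w ∈ IsLocalRing.maximalIdeal (ring k r)) (heq : w ^ 2 = u ^ (r + 1))
    (hm : IsLocalRing.maximalIdeal (ring k r) ≤ Ideal.span {u, w}) (hvv : w * w ∈ Ideal.span {u}) :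
    ∃ φ : ring k r ≃ₐ[k] ring k r, φ (ArSing.x k r) = u ∧ φ (ArSing.y k r) = w := by
  obtain ⟨φ, hx, hy⟩ := exists_hom hu hw heq
  have hsurj : Function.Surjective φ := by
    intro a
    obtain ⟨f, g, h⟩ := exists_expansion hu hm hvv a
    have hev : φ.comp (xMap k r) = ev u hu := psHom_ext (by simp [xMap_X, hx])
    refine ⟨xMap k r f + xMap k r g * ArSing.y k r, ?_⟩
    rw [map_add, map_mul, hy, h]
    simp [← hev]
  exact ⟨AlgEquiv.ofBijective φ ⟨endo_injective_of_surjective φ.toRingHom hsurj, hsurj⟩, hx, hy⟩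

/-- Square roots of units of `k[[x]]`. -/
theorem exists_sqrt [IsAlgClosed k] (h2 : (2 : k) ≠ 0) (e : P1)
    (he : PowerSeries.constantCoeff e ≠ 0) :
    ∃ s : P1, s * s = e ∧ PowerSeries.constantCoeff s ≠ 0 := by
  obtain ⟨c, hc⟩ := IsAlgClosed.exists_eq_mul_self (PowerSeries.constantCoeff e)
  have hc0 : c ≠ 0 := fun h => he (by simp [hc, h])
  have : IsAdicComplete (Ideal.span {(PowerSeries.X : P1)}) P1 := inferInstance
  have hH : HenselianRing P1 (Ideal.span {(PowerSeries.X : P1)}) := IsAdicComplete.henselianRing _ _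
  obtain ⟨s, hs, hsc⟩ := hH.is_henselian (Polynomial.X ^ 2 - Polynomial.C e)
    (Polynomial.monic_X_pow_sub_C e two_ne_zero) (PowerSeries.C c) (by
      simp [Ideal.mem_span_singleton, PowerSeries.X_dvd_iff, hc, pow_two]) (by
      refine (IsUnit.map _ ?_)
      rw [PowerSeries.isUnit_iff_constantCoeff]
      simp [h2, hc0, isUnit_iff_ne_zero, one_add_one_eq_two, show PowerSeries.constantCoeff (2 : PowerSeries k) = 2 from map_ofNat _ 2])
  refine ⟨s, ?_, ?_⟩
  · simpa [Polynomial.IsRoot, sub_eq_zero, pow_two] using hs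
  · rw [Ideal.mem_span_singleton, PowerSeries.X_dvd_iff] at hsc
    rw [map_sub, PowerSeries.constantCoeff_C, sub_eq_zero] at hsc
    rwa [hsc]

end Groth.Agent.Ar2
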