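import Mathlib
import Groth.Prelude.Def_W4c1arstab1appArSing

/-!
The algebras `k[[x,y]]/(y^2 - x^(r+1))` as free `k[[x]]`-modules on `1, y`.
-/

set_option autoImplicit false

universe u

open ArSing

namespace Groth.Agent.Ar2

variable {k : Type u} [Field k] {r : ℕ}

local notation "P2" => MvPowerSeries (Fin 2) k
local notation "P1" => PowerSeries k

/-- The exponent `x^a y^b`. -/
noncomputable def ex (a b : ℕ) : Fin 2 →₀ ℕ := Finsupp.single 0 a + Finsupp.single 1 b

lemma ex_zero (a b : ℕ) : ex a b 0 = a := by simp [ex]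
lemma ex_one (a b : ℕ) : ex a b 1 = b := by simp [ex]

lemma ex_self (d : Fin 2 →₀ ℕ) : ex (d 0) (d 1) = d := by
  ext i
  fin_cases i <;> simp [ex]

/-- The coefficient of `x^a y^b`. -/
noncomputable def cf (F : P2) (a b : ℕ) : k := MvPowerSeries.coeff (ex a b) F

lemma cf_ext {F G : P2} (h : ∀ a b, cf F a b = cf G a b) : F = G :=
  MvPowerSeries.ext fun d => by rw [← ex_self d]; exact h _ _

lemma cf_add (F G : P2) (a b : ℕ) : cf (F + G) a b = cf F a b + cf G a b := map_add _ _ _

lemma cf_sub (F G : P2) (a b : ℕ) : cf (F - G) a b = cf F a b - cf G a b := map_sub _ _ _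

lemma cf_X0_pow_mul (n : ℕ) (F : P2) (a b : ℕ) :
    cf (MvPowerSeries.X 0 ^ n * F) a b = if n ≤ a then cf F (a - n) b else 0 := by
  classical
  rw [cf, MvPowerSeries.X_pow_eq, MvPowerSeries.coeff_monomial_mul]
  have hiff : Finsupp.single (0 : Fin 2) n ≤ ex a b ↔ n ≤ a := by
    constructor
    · intro h
      simpa [ex] using h 0
    · intro h i
      fin_cases i <;> simp [ex, h]
  simp only [hiff, one_mul]
  split_ifs with h
  · congr 2
    ext i
    fin_cases i <;> simp [ex]
  · rfl

lemma cf_X1_pow_mul (n : ℕ) (F : P2) (a b : ℕ) :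
    cf (MvPowerSeries.X 1 ^ n * F) a b = if n ≤ b then cf F a (b - n) else 0 := by
  classical
  rw [cf, MvPowerSeries.X_pow_eq, MvPowerSeries.coeff_monomial_mul]
  have hiff : Finsupp.single (1 : Fin 2) n ≤ ex a b ↔ n ≤ b := by
    constructor
    · intro h
      simpa [ex] using h 1
    · intro h i
      fin_cases i <;> simp [ex, h]
  simp only [hiff, one_mul]
  split_ifs with h
  · congr 2
    ext i
    fin_cases i <;> simp [ex]
  · rfl

lemma cf_eqn_mul (F : P2) (a b : ℕ) :
    cf (eqn k r * F) a b =
      (if 2 ≤ b then cf F a (b - 2) else 0) - (if r + 1 ≤ a then cf F (a - (r + 1)) b else 0) := by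
  rw [eqn, sub_mul, cf_sub, cf_X1_pow_mul, cf_X0_pow_mul]

/-- The embedding of `k[[x]]`. -/
noncomputable def inX : P1 →ₐ[k] P2 :=
  PowerSeries.substAlgHom (PowerSeries.HasSubst.of_constantCoeff_zero
    (MvPowerSeries.constantCoeff_X (0 : Fin 2)))

lemma xMap_eq (f : P1) : xMap k r f = Ideal.Quotient.mk _ (inX f) := rfl

lemma cf_inX (f : P1) (a b : ℕ) : cf (inX f) a b = if b = 0 then PowerSeries.coeff a f else 0 := by
  classical
  rw [cf, inX, PowerSeries.coe_substAlgHom, PowerSeries.coeff_subst
    (PowerSeries.HasSubst.of_constantCoeff_zero (MvPowerSeries.constantCoeff_X (0 : Fin 2)))]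
  simp only [MvPowerSeries.coeff_X_pow, smul_eq_mul, mul_ite, mul_one, mul_zero]
  by_cases hb : b = 0
  · subst hb
    rw [if_pos rfl, finsum_eq_single _ a]
    · rw [if_pos]
      ext i
      fin_cases i <;> simp [ex]
    · intro d hd
      rw [if_neg]
      intro h
      have := DFunLike.congr_fun h 0
      simp [ex] at this
      exact hd this.symm
  · rw [if_neg hb]
    refine finsum_eq_zero_of_forall_eq_zero fun d => if_neg fun h => hb ?_
    have := DFunLike.congr_fun h 1
    simpa [ex] using this

/-- One component of the division by the equation. -/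
noncomputable def part (r b : ℕ) (F : P2) : P1 := PowerSeries.mk fun i =>
  ∑ j ∈ Finset.range (i + 1), if (r + 1) * j ≤ i then cf F (i - (r + 1) * j) (2 * j + b) else 0

/-- The quotient of the division by the equation. -/
noncomputable def quot (r : ℕ) (F : P2) : P2 := fun d =>
  ∑ j ∈ Finset.range (d 0 + 1),
    if (r + 1) * j ≤ d 0 then cf F (d 0 - (r + 1) * j) (2 * j + (d 1 + 2)) else 0

lemma sum_step (F : P2) (a b : ℕ) :
    (∑ j ∈ Finset.range (a + 1), if (r + 1) * j ≤ a then cf F (a - (r + 1) * j) (2 * j + b) else 0) =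
      cf F a b + if r + 1 ≤ a then ∑ j ∈ Finset.range (a - (r + 1) + 1),
        (if (r + 1) * j ≤ a - (r + 1) then
          cf F (a - (r + 1) - (r + 1) * j) (2 * j + (b + 2)) else 0) else 0 := by
  rw [Finset.sum_range_succ']
  simp only [mul_zero, Nat.zero_le, if_true, Nat.sub_zero, zero_add]
  rw [add_comm]
  congr 1
  by_cases h : r + 1 ≤ a
  · rw [if_pos h]
    refine ((Finset.sum_subset (Finset.range_mono (show a - (r + 1) + 1 ≤ a by omega)) ?_).symm).trans ?_
    · intro j _ hj
      rw [Finset.mem_range, not_lt] at hj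
      have : j ≤ (r + 1) * j := Nat.le_mul_of_pos_left _ (by omega)
      rw [if_neg]
      rw [mul_add, mul_one]
      omega
    · refine Finset.sum_congr rfl fun j _ => ?_
      rw [mul_add, mul_one]
      by_cases h' : (r + 1) * j ≤ a - (r + 1)
      · rw [if_pos h', if_pos (by omega)]
        congr 1 <;> omega
      · rw [if_neg h', if_neg (by omega)]
  · rw [if_neg h]
    refine Finset.sum_eq_zero fun j _ => if_neg ?_
    rw [mul_add, mul_one]
    omega

lemma cf_quot (F : P2) (a b : ℕ) : cf (quot r F) a b =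
    ∑ j ∈ Finset.range (a + 1), if (r + 1) * j ≤ a then cf F (a - (r + 1) * j) (2 * j + (b + 2)) else 0 := by
  change quot r F (ex a b) = _
  simp only [quot, ex_zero, ex_one]

theorem division (F : P2) :
    F = inX (part r 0 F) + MvPowerSeries.X 1 * inX (part r 1 F) + eqn k r * quot r F := by
  refine cf_ext fun a b => ?_
  have hX := cf_X1_pow_mul 1 (inX (part r 1 F)) a b
  rw [pow_one] at hX
  rw [cf_add, cf_add, hX, cf_eqn_mul]
  simp only [cf_quot, cf_inX, part, PowerSeries.coeff_mk]
  rcases b with _ | _ | b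
  · simp only [sum_step F a 0]
    simp
  · simp only [sum_step F a 1]
    simp
  · simp only [show ¬ (b + 1 + 1 = 0) by omega, show ¬ (b + 1 + 1 - 1 = 0) by omega, if_false,
      show 2 ≤ b + 1 + 1 by omega, if_true, show b + 1 + 1 - 2 = b by omega, ite_self, zero_add,
      add_zero]
    rw [sum_step F a (b + 2)]
    ring

theorem division_unique {f g : P1} {Q : P2}
    (h : inX f + MvPowerSeries.X 1 * inX g = eqn k r * Q) : f = 0 ∧ g = 0 := by
  have hc : ∀ a b, (if b = 0 then PowerSeries.coeff a f else 0) +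
      (if 1 ≤ b then (if b - 1 = 0 then PowerSeries.coeff a g else 0) else 0) =
      (if 2 ≤ b then cf Q a (b - 2) else 0) - (if r + 1 ≤ a then cf Q (a - (r + 1)) b else 0) := by
    intro a b
    have hX := cf_X1_pow_mul 1 (inX g) a b
    rw [pow_one] at hX
    have := congrArg (fun F => cf F a b) h
    simpa only [cf_add, hX, cf_eqn_mul, cf_inX] using this
  have hQ : ∀ a b, cf Q a b = 0 := by
    intro a
    induction a using Nat.strong_induction_on with
    | _ a ih =>
      intro b
      have := hc a (b + 2)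
      simp only [show ¬ (b + 2 = 0) by omega, show ¬ (b + 2 - 1 = 0) by omega, if_false,
        show 1 ≤ b + 2 by omega, if_true, show 2 ≤ b + 2 by omega, show b + 2 - 2 = b by omega,
        add_zero] at this
      by_cases hN : r + 1 ≤ a
      · rw [if_pos hN, ih (a - (r + 1)) (by omega), sub_zero] at this
        exact this.symm
      · rw [if_neg hN, sub_zero] at this
        exact this.symm
  constructor <;> ext a
  · simpa [hQ] using hc a 0
  · simpa [hQ] using hc a 1

theorem exists_repr (a : ring k r) : ∃ p : P1 × P1, a = xMap k r p.1 + ArSing.y k r * xMap k r p.2 := by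
  obtain ⟨F, rfl⟩ := Ideal.Quotient.mk_surjective a
  refine ⟨(part r 0 F, part r 1 F), ?_⟩
  rw [xMap_eq, xMap_eq, ← map_mul, ← map_add, Ideal.Quotient.eq, Ideal.mem_span_singleton]
  exact ⟨quot r F, sub_eq_iff_eq_add'.2 (division F)⟩

theorem repr_unique {f g : P1} (h : xMap k r f + ArSing.y k r * xMap k r g = 0) :
    f = 0 ∧ g = 0 := by
  rw [xMap_eq, xMap_eq, ← map_mul, ← map_add, Ideal.Quotient.eq_zero_iff_mem,
    Ideal.mem_span_singleton] at h
  obtain ⟨Q, hQ⟩ := h
  exact division_unique hQ

/-- The component free of `y`. -/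
noncomputable def fst (a : ring k r) : P1 := (exists_repr a).choose.1

/-- The coefficient of `y`. -/
noncomputable def snd (a : ring k r) : P1 := (exists_repr a).choose.2

lemma repr_eq (a : ring k r) : xMap k r (fst a) + ArSing.y k r * xMap k r (snd a) = a :=
  (exists_repr a).choose_spec.symm

lemma comps_eq {a : ring k r} {f g : P1} (h : a = xMap k r f + ArSing.y k r * xMap k r g) :
    fst a = f ∧ snd a = g := by
  have := repr_unique (f := fst a - f) (g := snd a - g) (by
    rw [map_sub, map_sub]
    linear_combination (repr_eq a) + h)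
  exact ⟨sub_eq_zero.1 this.1, sub_eq_zero.1 this.2⟩

lemma comps_ext {a b : ring k r} (h1 : fst a = fst b) (h2 : snd a = snd b) : a = b := by
  rw [← repr_eq a, ← repr_eq b, h1, h2]

@[simp] lemma fst_xMap (f : P1) : fst (xMap k r f) = f :=
  (comps_eq (g := 0) (by rw [map_zero, mul_zero, add_zero])).1

@[simp] lemma snd_xMap (f : P1) : snd (xMap k r f) = 0 :=
  (comps_eq (f := f) (by rw [map_zero, mul_zero, add_zero])).2

@[simp] lemma fst_y : fst (ArSing.y k r) = 0 :=
  (comps_eq (g := 1) (by rw [map_zero, map_one, mul_one, zero_add])).1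

@[simp] lemma snd_y : snd (ArSing.y k r) = 1 :=
  (comps_eq (f := 0) (by rw [map_zero, map_one, mul_one, zero_add])).2

lemma xMap_X : xMap k r PowerSeries.X = ArSing.x k r := by
  rw [xMap_eq, inX, PowerSeries.coe_substAlgHom, PowerSeries.subst_X
    (PowerSeries.HasSubst.of_constantCoeff_zero (MvPowerSeries.constantCoeff_X (0 : Fin 2)))]

@[simp] lemma fst_x : fst (ArSing.x k r) = PowerSeries.X := by rw [← xMap_X, fst_xMap]
@[simp] lemma snd_x : snd (ArSing.x k r) = 0 := by rw [← xMap_X, snd_xMap]

lemma y_sq : ArSing.y k r * ArSing.y k r = xMap k r (PowerSeries.X ^ (r + 1)) := by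
  rw [map_pow, xMap_X, ← map_mul, ← map_pow, Ideal.Quotient.eq, Ideal.mem_span_singleton]
  exact ⟨1, by rw [eqn]; ring⟩

lemma y_sq' : ArSing.y k r ^ 2 = ArSing.x k r ^ (r + 1) := by
  rw [pow_two, y_sq, map_pow, xMap_X]

@[simp] lemma fst_add (a b : ring k r) : fst (a + b) = fst a + fst b :=
  (comps_eq (g := snd a + snd b) (by
    rw [map_add, map_add]; linear_combination -(repr_eq a) - (repr_eq b))).1

@[simp] lemma snd_add (a b : ring k r) : snd (a + b) = snd a + snd b :=
  (comps_eq (f := fst a + fst b) (by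
    rw [map_add, map_add]; linear_combination -(repr_eq a) - (repr_eq b))).2

@[simp] lemma fst_zero : fst (0 : ring k r) = 0 := by simpa using fst_xMap (k := k) (r := r) 0
@[simp] lemma snd_zero : snd (0 : ring k r) = 0 := by simpa using snd_xMap (k := k) (r := r) 0

@[simp] lemma fst_neg (a : ring k r) : fst (-a) = -fst a := by
  have := fst_add a (-a)
  rw [add_neg_cancel, fst_zero] at this
  linear_combination -this

@[simp] lemma snd_neg (a : ring k r) : snd (-a) = -snd a := by
  have := snd_add a (-a)
  rw [add_neg_cancel, snd_zero] at this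
  linear_combination -this

@[simp] lemma fst_sub (a b : ring k r) : fst (a - b) = fst a - fst b := by
  rw [sub_eq_add_neg, fst_add, fst_neg, sub_eq_add_neg]

@[simp] lemma snd_sub (a b : ring k r) : snd (a - b) = snd a - snd b := by
  rw [sub_eq_add_neg, snd_add, snd_neg, sub_eq_add_neg]

lemma mul_repr (a b : ring k r) :
    a * b = xMap k r (fst a * fst b + PowerSeries.X ^ (r + 1) * (snd a * snd b)) +
      ArSing.y k r * xMap k r (fst a * snd b + snd a * fst b) := by
  conv_lhs => rw [← repr_eq a, ← repr_eq b]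
  simp only [map_add, map_mul]
  linear_combination (xMap k r (snd a) * xMap k r (snd b)) * y_sq (k := k) (r := r)

@[simp] lemma fst_mul (a b : ring k r) :
    fst (a * b) = fst a * fst b + PowerSeries.X ^ (r + 1) * (snd a * snd b) :=
  (comps_eq (mul_repr a b)).1

@[simp] lemma snd_mul (a b : ring k r) : snd (a * b) = fst a * snd b + snd a * fst b :=
  (comps_eq (mul_repr a b)).2

@[simp] lemma fst_one : fst (1 : ring k r) = 1 := by simpa using fst_xMap (k := k) (r := r) 1
@[simp] lemma snd_one : snd (1 : ring k r) = 0 := by simpa using snd_xMap (k := k) (r := r) 1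

lemma xMap_C (c : k) : xMap k r (PowerSeries.C c) = algebraMap k (ring k r) c := by
  rw [← (xMap k r).commutes c]; rfl

@[simp] lemma fst_algebraMap (c : k) : fst (algebraMap k (ring k r) c) = PowerSeries.C c := by
  rw [← xMap_C, fst_xMap]

@[simp] lemma snd_algebraMap (c : k) : snd (algebraMap k (ring k r) c) = 0 := by
  rw [← xMap_C, snd_xMap]

lemma xMap_injective : Function.Injective (xMap k r) := fun f g h => by
  simpa using congrArg fst h

instance : Nontrivial (ring k r) :=
  ⟨0, 1, fun h => by simpa using congrArg (fun a => PowerSeries.constantCoeff (fst a)) h⟩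

instance : IsLocalRing (ring k r) :=
  IsLocalRing.of_surjective' (Ideal.Quotient.mk _) Ideal.Quotient.mk_surjective

/-- The residue map. -/
noncomputable def eps : ring k r →ₐ[k] k where
  toFun a := PowerSeries.constantCoeff (fst a)
  map_one' := by simp
  map_mul' a b := by simp [zero_pow (Nat.succ_ne_zero r)]
  map_zero' := by simp
  map_add' a b := by simp
  commutes' c := by simp

lemma mem_max_iff {a : ring k r} :
    a ∈ IsLocalRing.maximalIdeal (ring k r) ↔ PowerSeries.constantCoeff (fst a) = 0 := by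
  have hsurj : Function.Surjective (eps (k := k) (r := r)) :=
    fun c => ⟨algebraMap k _ c, AlgHom.commutes _ c⟩
  rw [← IsLocalRing.eq_maximalIdeal (RingHom.ker_isMaximal_of_surjective
    (eps (k := k) (r := r)).toRingHom hsurj)]
  rfl

lemma x_mem_max : ArSing.x k r ∈ IsLocalRing.maximalIdeal (ring k r) := mem_max_iff.2 (by simp)

lemma y_mem_max : ArSing.y k r ∈ IsLocalRing.maximalIdeal (ring k r) := mem_max_iff.2 (by simp)

lemma max_eq_span :
    IsLocalRing.maximalIdeal (ring k r) = Ideal.span {ArSing.x k r, ArSing.y k r} := by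
  refine le_antisymm (fun a ha => ?_) (Ideal.span_le.2 (Set.pair_subset x_mem_max y_mem_max))
  obtain ⟨f, hf⟩ := PowerSeries.X_dvd_iff.2 (mem_max_iff.1 ha)
  rw [← repr_eq a, hf, map_mul, xMap_X]
  exact add_mem (Ideal.mul_mem_right _ _ (Ideal.subset_span (Or.inl rfl)))
    (Ideal.mul_mem_right _ _ (Ideal.subset_span (Or.inr rfl)))

lemma max_sq_le : IsLocalRing.maximalIdeal (ring k r) ^ 2 ≤ Ideal.span {ArSing.x k r} := by
  rw [max_eq_span, pow_two, Ideal.span_mul_span', Ideal.span_le]
  rintro _ ⟨a, ha, b, hb, rfl⟩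
  rw [SetLike.mem_coe, Ideal.mem_span_singleton]
  rcases ha with rfl | ha
  · exact dvd_mul_right _ _
  · rcases hb with rfl | hb
    · exact dvd_mul_left _ _
    · rw [Set.mem_singleton_iff] at ha hb
      change ArSing.x k r ∣ a * b
      rw [ha, hb, ← pow_two, y_sq', pow_succ']
      exact dvd_mul_right _ _

theorem eq_zero_of_forall_mem {a : ring k r}
    (h : ∀ n : ℕ, a ∈ IsLocalRing.maximalIdeal (ring k r) ^ n) : a = 0 := by
  have key : ∀ n : ℕ, PowerSeries.X ^ n ∣ fst a ∧ PowerSeries.X ^ n ∣ snd a := fun n => by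
    have hm : a ∈ (IsLocalRing.maximalIdeal (ring k r) ^ 2) ^ n := by rw [← pow_mul]; exact h _
    have h1 := Ideal.pow_right_mono (max_sq_le (k := k) (r := r)) n hm
    rw [Ideal.span_singleton_pow, Ideal.mem_span_singleton] at h1
    obtain ⟨c, rfl⟩ := h1
    rw [fst_mul, snd_mul, ← xMap_X, ← map_pow, fst_xMap, snd_xMap]
    simp
  refine comps_ext ?_ ?_ <;> ext i
  · have := PowerSeries.X_pow_dvd_iff.1 (key (i + 1)).1 i (Nat.lt_succ_self i)
    simpa using this
  · have := PowerSeries.X_pow_dvd_iff.1 (key (i + 1)).2 i (Nat.lt_succ_self i)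
    simpa using this

end Groth.Agent.Ar2
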