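import Groth.Agent.Ar2.Classify

/-!
Involutions of `k[[y]]` (as `r = 0`) and of the node (`r = 1`).
-/

set_option autoImplicit false

universe u

open ArSing

namespace Groth.Agent.Ar2

variable {k : Type u} [Field k]

local notation "P1" => PowerSeries k

theorem smooth_involution (h2 : (2 : k) ≠ 0) (σ : ring k 0 ≃ₐ[k] ring k 0) (hσ : ∀ a, σ (σ a) = a)
    (hne : σ ≠ AlgEquiv.refl) :
    ∃ φ : ring k 0 ≃ₐ[k] ring k 0, φ.symm (σ (φ (ArSing.x k 0))) = ArSing.x k 0 ∧
      φ.symm (σ (φ (ArSing.y k 0))) = -ArSing.y k 0 := by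
  set A : k →+* ring k 0 := algebraMap k (ring k 0) with hA
  have hσA : ∀ c, σ (A c) = A c := σ.commutes
  have hσm : ∀ z ∈ IsLocalRing.maximalIdeal (ring k 0), σ z ∈ IsLocalRing.maximalIdeal (ring k 0) :=
    fun z hz => by simpa using map_mem_pow σ (n := 1) (by simpa using hz)
  have hxy : ArSing.x k 0 = ArSing.y k 0 ^ 2 := by rw [y_sq', zero_add, pow_one]
  have hx2 : ArSing.x k 0 ∈ IsLocalRing.maximalIdeal (ring k 0) ^ 2 := by
    rw [hxy]; exact Ideal.pow_mem_pow y_mem_max 2
  obtain ⟨β, hy⟩ : ∃ β : k, σ (ArSing.y k 0) - A β * ArSing.y k 0 ∈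
      IsLocalRing.maximalIdeal (ring k 0) ^ 2 := by
    refine ⟨PowerSeries.constantCoeff (snd (σ (ArSing.y k 0))), ?_⟩
    have := add_mem (sub_linear_mem (hσm _ y_mem_max)) (Ideal.mul_mem_left _
      (A (PowerSeries.coeff 1 (fst (σ (ArSing.y k 0))))) hx2)
    rwa [sub_add_eq_sub_sub, sub_right_comm, sub_add_cancel] at this
  have hsnd : ∀ z ∈ IsLocalRing.maximalIdeal (ring k 0) ^ 2, PowerSeries.constantCoeff (snd z) = 0 := by
    intro z hz
    obtain ⟨c, rfl⟩ := Ideal.mem_span_singleton.1 (max_sq_le hz)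
    simp
  have hβ : β ^ 2 = 1 := by
    have h := map_mem_pow σ hy
    rw [map_sub, map_mul, hσA, hσ] at h
    have := hsnd _ (add_mem h (Ideal.mul_mem_left _ (A β) hy))
    simp [hA, mul_sub] at this
    linear_combination -this
  have hb2 : A β * A β = 1 := by rw [← map_mul, ← pow_two, hβ, map_one]
  set w := A 2⁻¹ * (ArSing.y k 0 + A β * σ (ArSing.y k 0)) with hwdef
  have hσw : σ w = A β * w := by
    rw [hwdef, map_mul, map_add, map_mul, hσA, hσA, hσ]
    linear_combination -(A 2⁻¹ * σ (ArSing.y k 0)) * hb2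
  have hwy : w - ArSing.y k 0 ∈ IsLocalRing.maximalIdeal (ring k 0) ^ 2 := by
    have h1 : A 2⁻¹ + A 2⁻¹ = 1 := by
      rw [← map_add, show (2⁻¹ + 2⁻¹ : k) = 1 by field_simp; norm_num, map_one]
    have e : w - ArSing.y k 0 = A (2⁻¹ * β) * (σ (ArSing.y k 0) - A β * ArSing.y k 0) := by
      rw [hwdef, map_mul]
      linear_combination (ArSing.y k 0) * h1 + (A 2⁻¹ * ArSing.y k 0) * hb2
    rw [e]
    exact Ideal.mul_mem_left _ _ hy
  have hw : w ∈ IsLocalRing.maximalIdeal (ring k 0) := Ideal.mul_mem_left _ _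
    (add_mem y_mem_max (Ideal.mul_mem_left _ _ (hσm _ y_mem_max)))
  have hu : w ^ 2 ∈ IsLocalRing.maximalIdeal (ring k 0) := Ideal.pow_mem_of_mem _ hw 2 (by norm_num)
  have hux : w ^ 2 - (ArSing.x k 0 + algebraMap k _ 0 * ArSing.y k 0) ∈
      IsLocalRing.maximalIdeal (ring k 0) ^ 2 := by
    rw [map_zero, zero_mul, add_zero]
    exact sub_mem (Ideal.pow_mem_pow hw 2) hx2
  obtain ⟨φ, hφx, hφy⟩ := exists_aut hu hw (by rw [zero_add, pow_one])
    (max_le_span 0 hux hwy) (by rw [← pow_two]; exact Ideal.mem_span_singleton_self _)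
  rcases sq_eq_one_iff.1 hβ with rfl | rfl
  · refine absurd ?_ hne
    rw [map_one, one_mul] at hσw
    refine AlgEquiv.ext fun a => ?_
    obtain ⟨b, rfl⟩ := φ.surjective a
    have h : φ.trans σ = φ := aut_ext
      (by rw [AlgEquiv.trans_apply, hφx, map_pow, hσw]) (by rw [AlgEquiv.trans_apply, hφy, hσw])
    exact DFunLike.congr_fun h b
  · simp only [map_neg, map_one, neg_mul, one_mul] at hσw
    refine ⟨φ, ?_, ?_⟩
    · rw [AlgEquiv.symm_apply_eq, hφx, map_pow, hσw]; ring
    · rw [AlgEquiv.symm_apply_eq, hφy, hσw, map_neg, hφy]; ring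

/-- The branch `y = x`. -/
noncomputable def brP : ring k 1 →ₐ[k] P1 where
  toFun a := fst a + PowerSeries.X * snd a
  map_one' := by simp
  map_mul' a b := by simp; ring
  map_zero' := by simp
  map_add' a b := by simp; ring
  commutes' c := by simp

/-- The branch `y = -x`. -/
noncomputable def brM : ring k 1 →ₐ[k] P1 where
  toFun a := fst a - PowerSeries.X * snd a
  map_one' := by simp
  map_mul' a b := by simp; ring
  map_zero' := by simp
  map_add' a b := by simp; ring
  commutes' c := by simp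

lemma brP_apply (a : ring k 1) : brP a = fst a + PowerSeries.X * snd a := rfl
lemma brM_apply (a : ring k 1) : brM a = fst a - PowerSeries.X * snd a := rfl

lemma br_ext (h2 : (2 : k) ≠ 0) {a b : ring k 1} (hP : brP a = brP b) (hM : brM a = brM b) :
    a = b := by
  have h2' : (2 : P1) ≠ 0 := fun h => h2 (by simpa [map_ofNat] using congrArg PowerSeries.constantCoeff h)
  rw [brP_apply, brP_apply] at hP
  rw [brM_apply, brM_apply] at hM
  have h1 : fst a = fst b := mul_left_cancel₀ h2' (by linear_combination hP + hM)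
  refine comps_ext h1 (mul_left_cancel₀ (PowerSeries.X_ne_zero (R := k)) ?_)
  linear_combination hP - h1

lemma eq_mul_of_brP {a : ring k 1} (h : brP a = 0) :
    a = xMap k 1 (snd a) * (ArSing.y k 1 - ArSing.x k 1) := by
  have h' : fst a = -(PowerSeries.X * snd a) := eq_neg_of_add_eq_zero_left h
  conv_lhs => rw [← repr_eq a]
  rw [h', map_neg, map_mul, xMap_X]
  ring

lemma eq_mul_of_brM {a : ring k 1} (h : brM a = 0) :
    a = xMap k 1 (snd a) * (ArSing.y k 1 + ArSing.x k 1) := by
  have h' : fst a = PowerSeries.X * snd a := sub_eq_zero.1 h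
  conv_lhs => rw [← repr_eq a]
  rw [h', map_mul, xMap_X]
  ring

lemma br_gens :
    brP (ArSing.y k 1 + ArSing.x k 1) = 2 * PowerSeries.X ∧ brM (ArSing.y k 1 + ArSing.x k 1) = 0 ∧
    brP (ArSing.y k 1 - ArSing.x k 1) = 0 ∧ brM (ArSing.y k 1 - ArSing.x k 1) = -(2 * PowerSeries.X) := by
  refine ⟨?_, ?_, ?_, ?_⟩ <;> simp [brP_apply, brM_apply] <;> ring

/-- Classification of involutions of the node. -/
theorem node_involution (h2 : (2 : k) ≠ 0) (σ : ring k 1 ≃ₐ[k] ring k 1) (hσ : ∀ a, σ (σ a) = a)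
    (hne : σ ≠ AlgEquiv.refl) :
    ∃ φ : ring k 1 ≃ₐ[k] ring k 1,
      (φ.symm (σ (φ (ArSing.x k 1))) = ArSing.x k 1 ∧ φ.symm (σ (φ (ArSing.y k 1))) = -ArSing.y k 1) ∨
      (φ.symm (σ (φ (ArSing.x k 1))) = -ArSing.x k 1 ∧ φ.symm (σ (φ (ArSing.y k 1))) = -ArSing.y k 1) ∨
      (φ.symm (σ (φ (ArSing.x k 1))) = ArSing.y k 1 ∧ φ.symm (σ (φ (ArSing.y k 1))) = ArSing.x k 1) := by
  obtain ⟨hPs, hMs, hPt, hMt⟩ := br_gens (k := k)
  have hmul : (ArSing.y k 1 + ArSing.x k 1) * (ArSing.y k 1 - ArSing.x k 1) = 0 := by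
    rw [← sq_sub_sq, y_sq', sub_self]
  set s := ArSing.y k 1 + ArSing.x k 1 with hs
  set t := ArSing.y k 1 - ArSing.x k 1 with ht
  set A : k →+* ring k 1 := algebraMap k (ring k 1) with hA
  have hσA : ∀ c, σ (A c) = A c := σ.commutes
  have h1 : A 2⁻¹ + A 2⁻¹ = 1 := by
    rw [← map_add, show (2⁻¹ + 2⁻¹ : k) = 1 by field_simp; norm_num, map_one]
  have h2' : (2 : P1) ≠ 0 := fun h => h2 (by simpa [map_ofNat] using congrArg PowerSeries.constantCoeff h)
  have hX2 : (2 * PowerSeries.X : P1) ≠ 0 := mul_ne_zero h2' PowerSeries.X_ne_zero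
  have hsm : s ∈ IsLocalRing.maximalIdeal (ring k 1) := add_mem y_mem_max x_mem_max
  have htm : t ∈ IsLocalRing.maximalIdeal (ring k 1) := sub_mem y_mem_max x_mem_max
  have hs0 : s ≠ 0 := fun h => hX2 (by rw [← hPs, h, map_zero])
  have ht0 : t ≠ 0 := fun h => hX2 (neg_eq_zero.1 (by rw [← hMt, h, map_zero]))
  have hgen : ∀ {u w : ring k 1}, s ∈ Ideal.span {u, w} → t ∈ Ideal.span {u, w} →
      IsLocalRing.maximalIdeal (ring k 1) ≤ Ideal.span {u, w} := by
    intro u w hu hw
    rw [max_eq_span, Ideal.span_le]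
    refine Set.pair_subset ?_ ?_
    · rw [SetLike.mem_coe, show ArSing.x k 1 = A 2⁻¹ * (s - t) by
        rw [hs, ht]; linear_combination -(ArSing.x k 1) * h1]
      exact Ideal.mul_mem_left _ _ (sub_mem hu hw)
    · rw [SetLike.mem_coe, show ArSing.y k 1 = A 2⁻¹ * (s + t) by
        rw [hs, ht]; linear_combination -(ArSing.y k 1) * h1]
      exact Ideal.mul_mem_left _ _ (add_mem hu hw)
  have hσmul : σ s * σ t = 0 := by rw [← map_mul, hmul, map_zero]
  have hcase : ∀ (B : ring k 1 →ₐ[k] P1), B (σ s) = 0 ∨ B (σ t) = 0 := fun B =>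
    mul_eq_zero.1 (by rw [← map_mul, hσmul, map_zero])
  have hσne : σ s ≠ 0 ∧ σ t ≠ 0 :=
    ⟨fun h => hs0 ((map_eq_zero_iff σ σ.injective).1 h), fun h => ht0 ((map_eq_zero_iff σ σ.injective).1 h)⟩
  rcases hcase brP with hP | hP
  · -- the branches are exchanged
    have hσs : σ s = xMap k 1 (snd (σ s)) * t := eq_mul_of_brP hP
    have hMt' : brM (σ t) = 0 := (hcase brM).resolve_left fun h => hσne.1
      (br_ext h2 (by rw [hP, map_zero]) (by rw [h, map_zero]))
    have hσt : σ t = xMap k 1 (snd (σ t)) * s := eq_mul_of_brM hMt'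
    set u := A 2⁻¹ * (s + σ s)
    set w := A 2⁻¹ * (s - σ s)
    have hs' : s = u + w := by simp only [u, w]; linear_combination -s * h1
    have hσs' : σ s = u - w := by simp only [u, w]; linear_combination -(σ s) * h1
    have hσsm : σ s ∈ IsLocalRing.maximalIdeal (ring k 1) := by rw [hσs]; exact Ideal.mul_mem_left _ _ htm
    have hu : u ∈ IsLocalRing.maximalIdeal (ring k 1) := Ideal.mul_mem_left _ _ (add_mem hsm hσsm)
    have hw : w ∈ IsLocalRing.maximalIdeal (ring k 1) := Ideal.mul_mem_left _ _ (sub_mem hsm hσsm)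
    have hzero : s * σ s = 0 := by rw [hσs]; linear_combination (xMap k 1 (snd (σ s))) * hmul
    have heq : w ^ 2 = u ^ 2 := by linear_combination -hzero + (σ s) * hs' + (u + w) * hσs'
    have hsI : s ∈ Ideal.span {u, w} := by
      rw [hs']
      exact add_mem (Ideal.subset_span (by simp)) (Ideal.subset_span (by simp))
    have hunit : IsUnit (xMap k 1 (snd (σ s))) := by
      by_contra hnu
      have hself : s = σ (xMap k 1 (snd (σ s))) * xMap k 1 (snd (σ t)) * s := by
        conv_lhs => rw [← hσ s, hσs, map_mul, hσt]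
        rw [mul_assoc]
      have hu1 : IsUnit (1 - σ (xMap k 1 (snd (σ s))) * xMap k 1 (snd (σ t))) :=
        IsLocalRing.isUnit_one_sub_self_of_mem_nonunits _ (fun h =>
          hnu ((MulEquiv.isUnit_map σ).1 (isUnit_of_mul_isUnit_left h)))
      exact hs0 (hu1.mul_right_eq_zero.1 (by linear_combination hself))
    have htI : t ∈ Ideal.span {u, w} := by
      obtain ⟨e, he⟩ := hunit
      have : t = ↑e⁻¹ * σ s := by rw [hσs, ← he, Units.inv_mul_cancel_left]
      rw [this, hσs']
      exact Ideal.mul_mem_left _ _ (sub_mem (Ideal.subset_span (by simp)) (Ideal.subset_span (by simp)))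
    obtain ⟨φ, hφx, hφy⟩ := exists_aut hu hw heq (hgen hsI htI)
      (by rw [← pow_two, heq, pow_two]; exact Ideal.mul_mem_left _ _ (Ideal.mem_span_singleton_self u))
    refine ⟨φ, Or.inl ⟨?_, ?_⟩⟩
    · rw [AlgEquiv.symm_apply_eq, hφx]
      simp only [u, map_mul, map_add, hσA, hσ]
      ring
    · rw [AlgEquiv.symm_apply_eq, map_neg, hφy]
      simp only [w, map_mul, map_sub, hσA, hσ]
      ring
  · -- the branches are preserved
    have hσt : σ t = xMap k 1 (snd (σ t)) * t := eq_mul_of_brP hP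
    have hMs' : brM (σ s) = 0 := (hcase brM).resolve_right fun h => hσne.2
      (br_ext h2 (by rw [hP, map_zero]) (by rw [h, map_zero]))
    have hσs : σ s = xMap k 1 (snd (σ s)) * s := eq_mul_of_brM hMs'
    have key : ∀ z : ring k 1, z ≠ 0 → ∀ f : P1, σ z = xMap k 1 f * z →
        ∃ (a : k) (e : (ring k 1)ˣ), (a = 1 ∨ a = -1) ∧ A 2⁻¹ * (z + A a * σ z) = ↑e * z ∧
          σ (A 2⁻¹ * (z + A a * σ z)) = A a * (A 2⁻¹ * (z + A a * σ z)) := by
      intro z hz f hf
      have hc : PowerSeries.constantCoeff f ^ 2 = 1 := by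
        have hself : z = σ (xMap k 1 f) * xMap k 1 f * z := by
          conv_lhs => rw [← hσ z, hf, map_mul, hf]
          rw [mul_assoc]
        by_contra hne1
        have hzero : (1 - σ (xMap k 1 f) * xMap k 1 f) * z = 0 := by linear_combination hself
        refine hz ((IsUnit.mul_right_eq_zero ?_).1 hzero)
        rw [← IsLocalRing.notMem_maximalIdeal, mem_max_iff]
        have hsame : PowerSeries.constantCoeff (fst (σ (xMap k 1 f))) = PowerSeries.constantCoeff f := by
          have hm : xMap k 1 f - A (PowerSeries.constantCoeff f) ∈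
              IsLocalRing.maximalIdeal (ring k 1) := mem_max_iff.2 (by simp [hA])
          have := map_mem_pow σ (n := 1) (by simpa using hm)
          rw [pow_one, map_sub, hσA, mem_max_iff] at this
          simpa [hA, sub_eq_zero] using this
        simpa [hsame, sub_eq_zero, pow_two] using Ne.symm hne1
      set a := PowerSeries.constantCoeff f with ha
      have haa : A a * A a = 1 := by rw [← map_mul, ← pow_two, hc, map_one]
      have hunit : IsUnit (A 2⁻¹ * (1 + A a * xMap k 1 f)) := by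
        rw [← IsLocalRing.notMem_maximalIdeal, mem_max_iff]
        simp [hA, ← ha, ← pow_two a, hc, one_add_one_eq_two, h2]
      refine ⟨a, hunit.unit, sq_eq_one_iff.1 hc, ?_, ?_⟩
      · rw [IsUnit.unit_spec, hf]; ring
      · rw [map_mul, map_add, map_mul, hσA, hσA, hσ]
        linear_combination -(A 2⁻¹ * σ z) * haa
    obtain ⟨a, es, ha, hes, hσs'⟩ := key s hs0 _ hσs
    obtain ⟨b, et, hb, het, hσt'⟩ := key t ht0 _ hσt
    rw [hes] at hσs'
    rw [het] at hσt'
    set s' := (es : ring k 1) * s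
    set t' := (et : ring k 1) * t
    have hst : s' * t' = 0 := by
      simp only [s', t']; linear_combination ((es : ring k 1) * et) * hmul
    set u := A 2⁻¹ * (s' - t')
    set w := A 2⁻¹ * (s' + t')
    have hs' : s' = u + w := by simp only [u, w]; linear_combination -s' * h1
    have ht' : t' = w - u := by simp only [u, w]; linear_combination -t' * h1
    have hu : u ∈ IsLocalRing.maximalIdeal (ring k 1) :=
      Ideal.mul_mem_left _ _ (sub_mem (Ideal.mul_mem_left _ _ hsm) (Ideal.mul_mem_left _ _ htm))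
    have hw : w ∈ IsLocalRing.maximalIdeal (ring k 1) :=
      Ideal.mul_mem_left _ _ (add_mem (Ideal.mul_mem_left _ _ hsm) (Ideal.mul_mem_left _ _ htm))
    have heq : w ^ 2 = u ^ 2 := by linear_combination hst - t' * hs' - (u + w) * ht'
    have hgen' : ∀ u' : ring k 1, u ∈ Ideal.span {u', w} →
        IsLocalRing.maximalIdeal (ring k 1) ≤ Ideal.span {u', w} := by
      intro u' hu'
      have hw' : w ∈ Ideal.span {u', w} := Ideal.subset_span (by simp)
      refine hgen ?_ ?_
      · rw [show s = ↑es⁻¹ * s' by simp [s']]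
        rw [hs']
        exact Ideal.mul_mem_left _ _ (add_mem hu' hw')
      · rw [show t = ↑et⁻¹ * t' by simp [t']]
        rw [ht']
        exact Ideal.mul_mem_left _ _ (sub_mem hw' hu')
    obtain ⟨φ, hφx, hφy⟩ := exists_aut hu hw heq (hgen' u (Ideal.subset_span (by simp)))
      (by rw [← pow_two, heq, pow_two]; exact Ideal.mul_mem_left _ _ (Ideal.mem_span_singleton_self u))
    have hσu : σ u = A 2⁻¹ * (A a * s' - A b * t') := by
      simp only [u, map_mul, map_sub, hσA, hσs', hσt']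
    have hσw : σ w = A 2⁻¹ * (A a * s' + A b * t') := by
      simp only [w, map_mul, map_add, hσA, hσs', hσt']
    rcases ha with rfl | rfl <;> rcases hb with rfl | rfl <;>
      simp only [map_one, map_neg, one_mul, neg_one_mul] at hσu hσw
    · refine absurd (AlgEquiv.ext fun z => ?_) hne
      obtain ⟨q, rfl⟩ := φ.surjective z
      have h : φ.trans σ = φ := aut_ext (by rw [AlgEquiv.trans_apply, hφx, hσu])
        (by rw [AlgEquiv.trans_apply, hφy, hσw])
      exact DFunLike.congr_fun h q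
    · refine ⟨φ, Or.inr (Or.inr ⟨?_, ?_⟩)⟩
      · rw [AlgEquiv.symm_apply_eq, hφx, hφy, hσu]
        simp only [w]; ring
      · rw [AlgEquiv.symm_apply_eq, hφx, hφy, hσw]
        simp only [u]; ring
    · obtain ⟨ψ, hψx, hψy⟩ := exists_aut (u := -u) (neg_mem hu) hw (by rw [heq]; ring)
        (hgen' (-u) (by
          have : -u ∈ Ideal.span {-u, w} := Ideal.subset_span (by simp)
          simpa using neg_mem this))
        (by rw [← pow_two, heq, show u ^ 2 = (-u) * (-u) by ring]; exact Ideal.mul_mem_left _ _ (Ideal.mem_span_singleton_self (-u)))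
      refine ⟨ψ, Or.inr (Or.inr ⟨?_, ?_⟩)⟩
      · rw [AlgEquiv.symm_apply_eq, hψx, hψy, map_neg, hσu]
        simp only [w]; ring
      · rw [AlgEquiv.symm_apply_eq, hψx, hψy, hσw]
        simp only [u]; ring
    · refine ⟨φ, Or.inr (Or.inl ⟨?_, ?_⟩)⟩
      · rw [AlgEquiv.symm_apply_eq, map_neg, hφx, hσu]
        simp only [u]; ring
      · rw [AlgEquiv.symm_apply_eq, map_neg, hφy, hσw]
        simp only [w]; ring

end Groth.Agent.Ar2
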